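import Cfsg.Agent.FGS75.SmallSimple.Unique
import Cfsg.Agent.S4774
import Cfsg.Agent.S4782
import Cfsg.Agent.S4812
import Cfsg.Agent.Linear.SmallIso
import Cfsg.Agent.SL2Char.Transfer
import Cfsg.Agent.Char.InvolutionCount
import Mathlib.GroupTheory.Perm.Centralizer

/-!
# The degree graphs of the simple groups of order below 6000
-/

set_option autoImplicit false
set_option linter.style.haveILetI false

namespace Cfsg.Agent.FGS75.SmallSimple

open Subgroup
open scoped ComplexConjugate

theorem degreePrimes_congr {S : Type*} [Group S] [Finite S] {T : Type*} [Group T] [Finite T]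
    (e : S ≃* T) : Cfsg.degreePrimes S = Cfsg.degreePrimes T := by
  simp only [Cfsg.degreePrimes, SL2Char.charDegrees_congr e]

theorem adj_congr {S : Type*} [Group S] [Finite S] {T : Type*} [Group T] [Finite T] (e : S ≃* T)
    (r s : ℕ) : (Cfsg.degreeGraph S).Adj r s ↔ (Cfsg.degreeGraph T).Adj r s := by
  show (r ≠ s ∧ r.Prime ∧ s.Prime ∧ ∃ d ∈ Cfsg.charDegrees S, r * s ∣ d) ↔
    (r ≠ s ∧ r.Prime ∧ s.Prime ∧ ∃ d ∈ Cfsg.charDegrees T, r * s ∣ d)
  rw [SL2Char.charDegrees_congr e]

theorem dvd_card_of_mem_degreePrimes {S : Type*} [Group S] [Finite S] {r : ℕ}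
    (h : r ∈ Cfsg.degreePrimes S) : r.Prime ∧ r ∣ Nat.card S := by
  obtain ⟨hr, d, ⟨χ, rfl⟩, hd⟩ := h
  obtain ⟨m, -, hm, hdvd⟩ := Char.irr_degree_dvd_card χ.2
  rw [Char.charDegree_of_eq hm] at hd
  exact ⟨hr, hd.trans hdvd⟩

/-- A non-solvable group whose order has only three prime divisors has all of them among its degrees. -/
theorem mem_degreePrimes_of_three {S : Type*} [Group S] [Finite S] (hS : ¬ Group.IsSolvable S)
    (P : Finset ℕ) (hP : P.card ≤ 3) (hdvd : ∀ r : ℕ, r.Prime → r ∣ Nat.card S → r ∈ P) {r : ℕ}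
    (hr : r.Prime) (hrS : r ∣ Nat.card S) : r ∈ Cfsg.degreePrimes S := by
  obtain ⟨a, b, c, hab, hbc, hac, ha, hb, hc⟩ := S4782.result hS
  have hmem : ∀ z, z ∈ Cfsg.degreePrimes S → z ∈ P := fun z hz =>
    hdvd z (dvd_card_of_mem_degreePrimes hz).1 (dvd_card_of_mem_degreePrimes hz).2
  have h3 : ({a, b, c} : Finset ℕ).card = 3 := by
    rw [Finset.card_insert_of_notMem (by simp [hab, hac]), Finset.card_insert_of_notMem (by simp [hbc]),
      Finset.card_singleton]
  have hsub : ({a, b, c} : Finset ℕ) ⊆ P := by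
    intro z hz
    simp only [Finset.mem_insert, Finset.mem_singleton] at hz
    rcases hz with rfl | rfl | rfl
    exacts [hmem _ ha, hmem _ hb, hmem _ hc]
  have he := Finset.eq_of_subset_of_card_le hsub (by omega)
  have hrP := hdvd r hr hrS
  rw [← he] at hrP
  simp only [Finset.mem_insert, Finset.mem_singleton] at hrP
  rcases hrP with rfl | rfl | rfl
  exacts [ha, hb, hc]

/-- A self-centralizing element of prime order in a group with many classes gives a degree. -/
theorem mem_degreePrimes_of_cent {S : Type*} [Group S] [Finite S] {p : ℕ} (hp : p.Prime) {x : S}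
    (hx : orderOf x = p) (hC : Nat.card (centralizer ({x} : Set S)) = p)
    (hk : p < Nat.card (ConjClasses S)) : p ∈ Cfsg.degreePrimes S := by
  classical
  by_contra hmem
  letI := Fintype.ofFinite S
  have := Fact.mk hp
  set A := zpowers x with hA
  have hAc : Nat.card A = p := by rw [hA, Nat.card_zpowers, hx]
  have hAcomm : ∀ y ∈ A, ∀ z ∈ A, y * z = z * y := by
    intro y hy z hz
    obtain ⟨i, rfl⟩ := mem_zpowers_iff.1 hy
    obtain ⟨j, rfl⟩ := mem_zpowers_iff.1 hz
    exact ((Commute.refl x).zpow_zpow i j).eq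
  set F := Finset.univ.filter fun y : S => y ∈ A ∧ y ≠ 1 with hF
  have hlow : ∀ χ : IrrCharacter S, (p : ℝ) - 1 ≤ ∑ y ∈ F, Complex.normSq ((χ : S → ℂ) y) := by
    intro χ
    obtain ⟨hd0, hd⟩ := Char.irr_charDegree_spec χ.2
    have h := L33.sum_normSq_mod A hAcomm (Char.isCharacter_of_irr χ.2) hd
    rw [hAc] at h
    refine le_trans ?_ h
    set r := Cfsg.charDegree (χ : S → ℂ) % p with hr
    have hr0 : r ≠ 0 := fun e => hmem ⟨hp, _, ⟨χ, rfl⟩, Nat.dvd_of_mod_eq_zero e⟩
    have hr1 : r + 1 ≤ p := Nat.mod_lt _ hp.pos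
    have h1 : (1 : ℝ) ≤ (r : ℝ) := by exact_mod_cast Nat.one_le_iff_ne_zero.2 hr0
    have h2 : (r : ℝ) + 1 ≤ (p : ℝ) := by exact_mod_cast hr1
    nlinarith
  have hFc : F.card = p - 1 := by
    rw [hF, show (Finset.univ.filter fun y : S => y ∈ A ∧ y ≠ 1) =
      (Finset.univ.filter fun y : S => y ∈ A).erase 1 by ext y; simp [and_comm],
      Finset.card_erase_of_mem (by simp [one_mem]), ← hAc, Nat.card_eq_fintype_card,
      Fintype.card_subtype]
  have htot : ∑ χ : IrrCharacter S, ∑ y ∈ F, Complex.normSq ((χ : S → ℂ) y) = ((p : ℝ) - 1) * p := by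
    rw [Finset.sum_comm, Finset.sum_congr rfl (g := fun _ => (p : ℝ))]
    · rw [Finset.sum_const, nsmul_eq_mul, hFc, Nat.cast_sub hp.one_le, Nat.cast_one]
    · intro y hy
      obtain ⟨hyA, hy1⟩ := (Finset.mem_filter.1 hy).2
      have hz : zpowers y = A := by
        refine Subgroup.eq_of_le_of_card_ge (zpowers_le.2 hyA) ?_
        rw [hAc, Nat.card_zpowers]
        rcases (Nat.dvd_prime hp).1 (hAc ▸ Subgroup.orderOf_dvd_natCard A hyA) with h | h
        · exact absurd (orderOf_eq_one_iff.1 h) hy1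
        · exact h.ge
      have hCy : centralizer ({y} : Set S) = centralizer ({x} : Set S) := by
        have hxy : x ∈ zpowers y := hz ▸ mem_zpowers x
        ext g
        simp only [mem_centralizer_singleton_iff]
        refine ⟨fun hg => ?_, fun hg => ?_⟩
        · obtain ⟨i, hi⟩ := mem_zpowers_iff.1 hxy
          rw [← hi]
          exact ((show Commute g y from hg).zpow_right i).eq
        · obtain ⟨i, hi⟩ := mem_zpowers_iff.1 hyA
          rw [← hi]
          exact ((show Commute g x from hg).zpow_right i).eq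
      have h := Char.sum_irr_mul_conj y y
      rw [if_pos (IsConj.refl y), hCy, hC] at h
      simp only [Complex.mul_conj, ← Complex.ofReal_sum] at h
      exact_mod_cast h
  have hsum := Finset.sum_le_sum (s := Finset.univ) fun χ _ => hlow χ
  rw [htot, Finset.sum_const, Finset.card_univ, ← Nat.card_eq_fintype_card,
    Char.card_irr_eq_card_conjClasses, nsmul_eq_mul] at hsum
  have hk' : (p : ℝ) + 1 ≤ (Nat.card (ConjClasses S) : ℝ) := by exact_mod_cast hk
  have hp2 : (2 : ℝ) ≤ (p : ℝ) := by exact_mod_cast hp.two_le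
  nlinarith

/-- Eight classes of the alternating group of degree seven. -/
theorem eight_le_card_conjClasses_alt_seven :
    8 ≤ Nat.card (ConjClasses (alternatingGroup (Fin 7))) := by
  classical
  let w : Fin 8 → Equiv.Perm (Fin 7) := ![1, Equiv.swap 0 1 * Equiv.swap 2 3,
    Equiv.swap 0 1 * Equiv.swap 1 2, Equiv.swap 0 1 * Equiv.swap 1 2 * (Equiv.swap 3 4 * Equiv.swap 4 5),
    Equiv.swap 0 1 * Equiv.swap 1 2 * Equiv.swap 2 3 * Equiv.swap 3 4,
    Equiv.swap 0 1 * Equiv.swap 1 2 * Equiv.swap 2 3 * Equiv.swap 3 4 * Equiv.swap 4 5 * Equiv.swap 5 6,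
    Equiv.swap 0 1 * Equiv.swap 1 2 * Equiv.swap 2 3 * Equiv.swap 4 5,
    Equiv.swap 0 1 * Equiv.swap 1 2 * Equiv.swap 3 4 * Equiv.swap 5 6]
  have hw : ∀ i, Equiv.Perm.sign (w i) = 1 := by decide +kernel
  let W : Fin 8 → alternatingGroup (Fin 7) := fun i => ⟨w i, Equiv.Perm.mem_alternatingGroup.2 (hw i)⟩
  let inv : Equiv.Perm (Fin 7) → ℕ × ℕ := fun σ =>
    ((Finset.univ.filter fun i => σ i = i).card, (Finset.univ.filter fun i => σ (σ i) = i).card)
  have hinv : ∀ σ c : Equiv.Perm (Fin 7), inv (c * σ * c⁻¹) = inv σ := by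
    intro σ c
    refine Prod.ext ?_ ?_ <;>
    · simp only [inv]
      refine Finset.card_bij (fun i _ => c⁻¹ i) (fun i hi => ?_) (fun i _ j _ h => c⁻¹.injective h)
        fun j hj => ⟨c j, ?_, by simp⟩
      · simp only [Finset.mem_filter, Finset.mem_univ, true_and] at hi ⊢
        simpa [Equiv.Perm.mul_apply, Equiv.eq_symm_apply] using hi
      · simp only [Finset.mem_filter, Finset.mem_univ, true_and] at hj ⊢
        simpa [Equiv.Perm.mul_apply] using hj
  have hdist : Function.Injective fun i => inv (w i) := by decide +kernel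
  have hinj : Function.Injective fun i => ConjClasses.mk (W i) := by
    intro i j h
    obtain ⟨c, hc⟩ := isConj_iff.1 (ConjClasses.mk_eq_mk_iff_isConj.1 h)
    refine hdist ?_
    show inv (w i) = inv (w j)
    rw [show w j = (c : Equiv.Perm (Fin 7)) * w i * (c : Equiv.Perm (Fin 7))⁻¹ from
      (congrArg Subtype.val hc).symm, hinv]
  simpa using Nat.card_le_card_of_injective _ hinj

theorem five_seven_alt_seven : 5 ∈ Cfsg.degreePrimes (alternatingGroup (Fin 7)) ∧
    7 ∈ Cfsg.degreePrimes (alternatingGroup (Fin 7)) := by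
  have h8 := eight_le_card_conjClasses_alt_seven
  have key : ∀ (p : ℕ) (σ : Equiv.Perm (Fin 7)) (hσ : σ ∈ alternatingGroup (Fin 7)), p.Prime →
      orderOf σ = p → Nat.card (centralizer ({σ} : Set (Equiv.Perm (Fin 7)))) ∣ 2 * p →
      (p < 7 → ∃ τ : Equiv.Perm (Fin 7), Equiv.Perm.sign τ = -1 ∧ τ * σ = σ * τ) →
      (7 ≤ p → Nat.card (centralizer ({σ} : Set (Equiv.Perm (Fin 7)))) ∣ p) →
      p < 8 → p ∈ Cfsg.degreePrimes (alternatingGroup (Fin 7)) := by
    intro p σ hσ hp ho hC h1 h2 hp8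
    let x : alternatingGroup (Fin 7) := ⟨σ, hσ⟩
    have hxo : orderOf x = p := by rw [← Subgroup.orderOf_coe]; exact ho
    refine mem_degreePrimes_of_cent hp hxo ?_ (by omega)
    set Cp := centralizer ({σ} : Set (Equiv.Perm (Fin 7)))
    set Ca := (centralizer ({x} : Set (alternatingGroup (Fin 7)))).map (alternatingGroup (Fin 7)).subtype
    have hle : Ca ≤ Cp := by
      rintro _ ⟨y, hy, rfl⟩
      exact mem_centralizer_singleton_iff.2 (congrArg Subtype.val (mem_centralizer_singleton_iff.1 hy))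
    have hc : Nat.card (centralizer ({x} : Set (alternatingGroup (Fin 7)))) = Nat.card Ca :=
      Nat.card_congr ((centralizer ({x} : Set (alternatingGroup (Fin 7)))).equivMapOfInjective _
        (alternatingGroup (Fin 7)).subtype_injective).toEquiv
    have hpd : p ∣ Nat.card (centralizer ({x} : Set (alternatingGroup (Fin 7)))) :=
      hxo ▸ Subgroup.orderOf_dvd_natCard _ (mem_centralizer_singleton_iff.2 rfl)
    rw [hc] at hpd ⊢
    by_cases h7 : 7 ≤ p
    · exact Nat.dvd_antisymm ((Subgroup.card_dvd_of_le hle).trans (h2 h7)) hpd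
    obtain ⟨τ, hτ, hτσ⟩ := h1 (by omega)
    have hne : Ca ≠ Cp := fun e => by
      obtain ⟨y, -, hy⟩ : τ ∈ Ca := e ▸ mem_centralizer_singleton_iff.2 hτσ
      have := Equiv.Perm.mem_alternatingGroup.1 y.2
      rw [show (y : Equiv.Perm (Fin 7)) = τ from hy, hτ] at this
      exact absurd this (by decide)
    obtain ⟨k, hk⟩ := hpd
    have hd2 : Nat.card Ca ∣ 2 * p := (Subgroup.card_dvd_of_le hle).trans hC
    rw [hk, mul_comm 2 p, Nat.mul_dvd_mul_iff_left hp.pos] at hd2
    rcases (Nat.dvd_prime Nat.prime_two).1 hd2 with rfl | rfl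
    · rw [hk, mul_one]
    · refine absurd (Subgroup.eq_of_le_of_card_ge hle ?_) hne
      rw [hk]
      exact Nat.le_of_dvd (by have := hp.pos; omega) (by rw [mul_comm p 2]; exact hC)
  refine ⟨?_, ?_⟩
  · let σ : Equiv.Perm (Fin 7) := Equiv.swap 0 1 * Equiv.swap 1 2 * Equiv.swap 2 3 * Equiv.swap 3 4
    have ho : orderOf σ = 5 := by
      have := Fact.mk Nat.prime_five
      exact orderOf_eq_prime (by decide +kernel) (by decide +kernel)
    have hct : σ.cycleType = {5} := by decide +kernel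
    refine key 5 σ (Equiv.Perm.mem_alternatingGroup.2 (by decide +kernel)) Nat.prime_five ho ?_
      (fun _ => ⟨Equiv.swap 5 6, by decide +kernel, by decide +kernel⟩) (fun h => by omega) (by norm_num)
    rw [Equiv.Perm.nat_card_centralizer, hct]
    decide
  · let σ : Equiv.Perm (Fin 7) := Equiv.swap 0 1 * Equiv.swap 1 2 * Equiv.swap 2 3 * Equiv.swap 3 4 *
      Equiv.swap 4 5 * Equiv.swap 5 6
    have ho : orderOf σ = 7 := by
      have := Fact.mk (by norm_num : Nat.Prime 7)
      exact orderOf_eq_prime (by decide +kernel) (by decide +kernel)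
    have hct : σ.cycleType = {7} := by decide +kernel
    refine key 7 σ (Equiv.Perm.mem_alternatingGroup.2 (by decide +kernel)) (by norm_num) ho ?_
      (fun h => absurd h (by norm_num)) (fun _ => ?_) (by norm_num) <;>
    · rw [Equiv.Perm.nat_card_centralizer, hct]
      decide

variable {S : Type*} [Group S] [Finite S] [IsSimpleGroup S]

theorem not_solvable_of_orders (h : Nat.card S ∈ orders) : ¬ Group.IsSolvable S := by
  intro hs
  have hc : IsMulCommutative S := ⟨⟨(IsSimpleGroup.comm_iff_isSolvable).2 hs⟩⟩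
  have hne : ¬ IsMulCommutative S := SmallGroups.not_isMulCommutative (by
    simp only [orders, List.mem_cons, List.not_mem_nil, or_false] at h
    rcases h with e | e | e | e | e | e | e | e | e | e | e <;> rw [e] <;> norm_num)
  exact hne hc

/-- All primes dividing the order are degree primes, except possibly 2 and 3 for the order 2520. -/
theorem mem_degreePrimes (h : Nat.card S ∈ orders) {r : ℕ} (hr : r.Prime) (hrS : r ∣ Nat.card S)
    (hA : Nat.card S = 2520 → r = 5 ∨ r = 7) : r ∈ Cfsg.degreePrimes S := by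
  have hns := not_solvable_of_orders h
  have small : ∀ (a b c : ℕ), c.Prime → Nat.card S = 2 ^ a * 3 ^ b * c → r ∈ Cfsg.degreePrimes S :=
    fun a b c hc e => mem_degreePrimes_of_three hns {2, 3, c} Finset.card_le_three (fun z hz hzS => by
      rw [e, hz.dvd_mul, hz.dvd_mul] at hzS
      simp only [Finset.mem_insert, Finset.mem_singleton]
      rcases hzS with (hd | hd) | hd
      · exact Or.inl ((Nat.prime_dvd_prime_iff_eq hz Nat.prime_two).1 (hz.dvd_of_dvd_pow hd))
      · exact Or.inr (Or.inl ((Nat.prime_dvd_prime_iff_eq hz Nat.prime_three).1 (hz.dvd_of_dvd_pow hd)))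
      · exact Or.inr (Or.inr ((Nat.prime_dvd_prime_iff_eq hz hc).1 hd))) hr hrS
  haveI : Fact (Nat.Prime 11) := ⟨by norm_num⟩
  haveI : Fact (Nat.Prime 13) := ⟨by norm_num⟩
  haveI : Fact (Nat.Prime 19) := ⟨by norm_num⟩
  letI : Fintype (GaloisField 2 4) := Fintype.ofFinite _
  have hmem := h
  simp only [orders, List.mem_cons, List.not_mem_nil, or_false] at hmem
  rcases hmem with e | e | e | e | e | e | e | e | e | e | e
  · exact small 2 1 5 (by norm_num) (e.trans (by norm_num))
  · exact small 3 1 7 (by norm_num) (e.trans (by norm_num))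
  · exact small 3 2 5 (by norm_num) (e.trans (by norm_num))
  · exact small 3 2 7 (by norm_num) (e.trans (by norm_num))
  · rw [(S4774.result (ZMod 11) 11 (by norm_num) 11 (ZMod.card 11) (by norm_num) (Or.inl
      (S0498.result 11 (Or.inl rfl) (by rw [e]; norm_num) (F := ZMod 11) (ZMod.card 11)))).1]
    exact ⟨hr, hrS.trans (by rw [e]; norm_num)⟩
  · rw [(S4774.result (ZMod 13) 13 (by norm_num) 13 (ZMod.card 13) (by norm_num) (Or.inl
      (S0498.result 13 (Or.inr rfl) (by rw [e]; norm_num) (F := ZMod 13) (ZMod.card 13)))).1]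
    exact ⟨hr, hrS.trans (by rw [e]; norm_num)⟩
  · exact small 4 2 17 (by norm_num) (e.trans (by norm_num))
  · obtain ⟨ψ⟩ := S0984.result e
    rw [degreePrimes_congr ψ]
    rcases hA e with rfl | rfl
    exacts [five_seven_alt_seven.1, five_seven_alt_seven.2]
  · rw [(S4774.result (ZMod 19) 19 (by norm_num) 19 (ZMod.card 19) (by norm_num) (Or.inl
      (S1021.result e (F := ZMod 19) (ZMod.card 19)))).1]
    exact ⟨hr, hrS.trans (by rw [e]; norm_num)⟩
  · have hF := card_galois 4 (by norm_num)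
    norm_num at hF
    rw [(S4812.result (GaloisField 2 4) 16 hF (by norm_num) (Or.inl (S0981.result e hF))).1]
    exact ⟨hr, hrS.trans (by rw [e]; norm_num)⟩
  · exact small 4 3 13 (by norm_num) (e.trans (by norm_num))

theorem not_adj_of_504 (h : Nat.card S = 504) : ¬ (Cfsg.degreeGraph S).Adj 2 3 := by
  letI : Fintype (GaloisField 2 3) := Fintype.ofFinite _
  have hF := card_galois 3 (by norm_num)
  norm_num at hF
  rw [(S4812.result (GaloisField 2 3) 8 hF (by norm_num) (Or.inl (S1011.result h hF))).2]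
  rintro ⟨-, -, -, ⟨h1, -⟩ | ⟨h1, -⟩⟩ <;> norm_num at h1

theorem graph_of_360 (h : Nat.card S = 360) :
    (Cfsg.degreeGraph S).Adj 2 5 ∧ ¬ (Cfsg.degreeGraph S).Adj 2 3 := by
  haveI : Fact (Nat.Prime 3) := ⟨Nat.prime_three⟩
  letI : Fintype (GaloisField 3 2) := Fintype.ofFinite _
  have hF : Fintype.card (GaloisField 3 2) = 9 := by
    rw [← Nat.card_eq_fintype_card, GaloisField.card 3 2 (by norm_num)]; norm_num
  obtain ⟨ψ⟩ := S0497.result h
  obtain ⟨φ⟩ := Linear.psl_two_nine_iso hF
  have hT := (S4774.result (GaloisField 3 2) 3 (by norm_num) 9 hF (by norm_num)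
    (Or.inl ⟨ψ.trans φ.symm⟩)).2
  rw [hT, hT]
  refine ⟨⟨by norm_num, Nat.prime_two, Nat.prime_five, by norm_num, by norm_num, Or.inl rfl⟩, ?_⟩
  rintro ⟨-, -, -, -, h1, -⟩
  norm_num at h1

end Cfsg.Agent.FGS75.SmallSimple
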