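import Cfsg.Agent.FGS75.SmallSimple.Layer
import Cfsg.Agent.FGS75.SmallSimple.NoAut
import Cfsg.Agent.FGS75.SmallSimple.Vertices
import Cfsg.Agent.FGS75.L33.Unique
import Cfsg.Agent.Suborbit.OrderSixtyGraph
import Cfsg.Agent.CharGraph.PDegreeBasic
import Cfsg.Agent.CharDeep.Ratio
import Cfsg.Agent.Char.Product
import Cfsg.Agent.Char.Integrality
import Mathlib.GroupTheory.SpecificGroups.Alternating.Simple
import Mathlib.GroupTheory.NoncommCoprod

/-!
# Excluding the non-simple groups
-/

set_option autoImplicit false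
set_option linter.style.haveILetI false

namespace Cfsg.Agent.FGS75.SmallSimple

open Subgroup
open scoped ComplexConjugate

/-- The numerical condition of `le_centralizer_of_numbers`. -/
def numCheck (d p r qa : ℕ) : Bool :=
  (List.range (d / p + 1)).all fun n =>
    !(decide (2 ≤ n) && d % (n * p) == 0 && n % p == 1) ||
      (List.range (n + 1)).all fun f =>
        !(f % r == n % r && f % p == 1) || f == n || (f == 1 && (d / n) % qa != 0)

theorem numCheck_spec {d p r qa : ℕ} (h : numCheck d p r qa = true) (hd : d ≠ 0) (hp : p ≠ 0) :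
    ∀ n, n ∣ d → n * p ∣ d → n % p = 1 → n ≠ 1 → ∀ f ≤ n, f % r = n % r → f % p = 1 →
      f = n ∨ (f = 1 ∧ ¬ qa ∣ d / n) := by
  intro n hn hnp hn1 hne f hf hfr hf1
  have hn2 : 2 ≤ n := by
    rcases n with _ | _ | n
    · simp at hn1
    · exact absurd rfl hne
    · omega
  have hle : n < d / p + 1 := Nat.lt_succ_of_le ((Nat.le_div_iff_mul_le (Nat.pos_of_ne_zero hp)).2
    (Nat.le_of_dvd (Nat.pos_of_ne_zero hd) hnp))
  have h1 := List.all_eq_true.1 h n (List.mem_range.2 hle)
  simp only [hn2, Nat.mod_eq_zero_of_dvd hnp, hn1, decide_true, beq_self_eq_true, Bool.and_self,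
    Bool.not_true, Bool.false_or] at h1
  have h2 := List.all_eq_true.1 h1 f (List.mem_range.2 (Nat.lt_succ_of_le hf))
  simp only [hfr, hf1, beq_self_eq_true, Bool.and_self, Bool.not_true, Bool.false_or, Bool.or_eq_true,
    Bool.and_eq_true, beq_iff_eq, bne_iff_ne] at h2
  exact h2.imp id fun h3 => ⟨h3.1, fun e => h3.2 (Nat.mod_eq_zero_of_dvd e)⟩

section Quot

variable {G : Type*} [Group G] [Finite G] (R : Subgroup G) [R.Normal] (T : Subgroup (G ⧸ R)) [T.Normal]

/-- A prime dividing the order only once, coprime to the automorphisms of the simple layer, is no degree prime. -/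
theorem false_of_no_aut [IsSimpleGroup T] (hC : centralizer (T : Set (G ⧸ R)) = ⊥) {n d : ℕ}
    (hn : Nat.card G = n) (hd : Nat.card T = d) (r p q a : ℕ) (hr : r.Prime) (hp : p.Prime) (hq : q.Prime)
    (hrd : r ∈ Cfsg.degreePrimes G) (hnr : n % r = 0) (hnr2 : n % (r * r) ≠ 0) (hdr : d % r ≠ 0)
    (hdp : d % p = 0) (hdp2 : d % (p * p) ≠ 0) (hdne : d ≠ p) (hrp : (p - 1) % r ≠ 0)
    (hqa : d % q ^ a = 0) (hqa' : d % q ^ (a + 1) ≠ 0) (hrq : ∀ j < a + 1, 1 ≤ j → (q ^ j - 1) % r ≠ 0)
    (hnum : numCheck d p r (q ^ a) = true)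
    (huniq : ∀ m < n / d / r + 1, (n / d / r % m == 0 && m % r == 1) = true → m = 1) : False := by
  have hd0 : d ≠ 0 := hd ▸ Nat.card_pos.ne'
  haveI := Fact.mk hr
  have hr2 : ¬ r ^ 2 ∣ Nat.card G := fun h => hnr2 (Nat.mod_eq_zero_of_dvd (by rw [← pow_two, ← hn]; exact h))
  have hRd : Nat.card R ∣ n / d := by
    have hdQ : d ∣ Nat.card (G ⧸ R) := hd ▸ Subgroup.card_subgroup_dvd_card T
    obtain ⟨j, hj⟩ := hdQ
    refine ⟨j, ?_⟩
    have h := R.card_mul_index
    rw [hn, show R.index = d * j from hj] at h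
    rw [← h, show Nat.card R * (d * j) = Nat.card R * j * d by ring,
      Nat.mul_div_cancel _ (Nat.pos_of_ne_zero hd0)]
  by_cases hrR : r ∣ Nat.card R
  · -- the Sylow `r`-subgroup is normal and abelian
    obtain ⟨P⟩ := (inferInstance : Nonempty (Sylow r R))
    have hPc : Nat.card (P : Subgroup R) = r := by
      obtain ⟨k, hk⟩ := IsPGroup.iff_card.1 P.2
      have hk1 : k ≤ 1 := by
        by_contra hk1
        exact hr2 ((pow_dvd_pow r (show 2 ≤ k by omega)).trans
          ((hk ▸ Subgroup.card_subgroup_dvd_card _).trans (Subgroup.card_subgroup_dvd_card R)))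
      have hd' : r ∣ Nat.card (P : Subgroup R) := P.dvd_card_of_dvd_card hrR
      rw [hk] at hd'
      have hk0 : k ≠ 0 := fun e => hr.ne_one (Nat.dvd_one.1 (by simpa [e] using hd'))
      rw [hk, show k = 1 by omega, pow_one]
    have hone : Nat.card (Sylow r R) = 1 := by
      have hdiv : Nat.card (Sylow r R) ∣ n / d / r := by
        refine P.card_dvd_index.trans ?_
        obtain ⟨c, hc⟩ := hRd
        have hi := (P : Subgroup R).card_mul_index
        rw [hPc] at hi
        exact ⟨c, by rw [hc, ← hi, show r * (P : Subgroup R).index * c = (P : Subgroup R).index * c * r by ring,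
          Nat.mul_div_cancel _ hr.pos]⟩
      have h0 : n / d / r ≠ 0 := by
        obtain ⟨c, hc⟩ := hRd
        obtain ⟨e, he⟩ := hrR
        have hnd : n / d ≠ 0 := by
          intro e0
          have hdn : d ∣ n := hn ▸ (hd ▸ Subgroup.card_subgroup_dvd_card T).trans (Subgroup.card_quotient_dvd_card R)
          have := Nat.div_mul_cancel hdn
          rw [e0, zero_mul] at this
          exact Nat.card_pos.ne' (hn.trans this.symm)
        intro e0
        rw [hc, he, mul_assoc, Nat.mul_div_cancel_left _ hr.pos] at e0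
        rw [hc, he, mul_assoc, e0, mul_zero] at hnd
        exact hnd rfl
      have hm := card_sylow_modEq_one r R
      refine huniq _ (Nat.lt_succ_of_le (Nat.le_of_dvd (Nat.pos_of_ne_zero h0) hdiv)) ?_
      rw [Nat.mod_eq_zero_of_dvd hdiv, show Nat.card (Sylow r R) % r = 1 by
        rw [hm, Nat.mod_eq_of_lt hr.one_lt]]
      rfl
    haveI : Subsingleton (Sylow r R) := (Nat.card_eq_one_iff_unique.1 hone).1
    haveI hPn : (P : Subgroup R).Normal := P.normal_of_subsingleton
    haveI := Sylow.characteristic_of_normal P hPn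
    set A := (P : Subgroup R).map R.subtype with hA
    haveI : A.Normal := inferInstance
    have hAc : Nat.card A = r := by
      rw [hA, ← Nat.card_congr ((P : Subgroup R).equivMapOfInjective _ R.subtype_injective).toEquiv, hPc]
    haveI : IsCyclic A := isCyclic_of_prime_card hAc
    refine not_mem_degreePrimes_of_abelian A
      (fun x hx y hy => congrArg Subtype.val ((IsCyclic.isMulCommutative (α := A)).is_comm.comm ⟨x, hx⟩ ⟨y, hy⟩ :))
      (fun h => hr2 ?_) hrd
    rw [← A.card_mul_index, hAc, pow_two]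
    exact Nat.mul_dvd_mul_left _ h
  · obtain ⟨x, hx⟩ := exists_prime_orderOf_dvd_card' (G := G) r (hn ▸ Nat.dvd_of_mod_eq_zero hnr)
    have hxo : orderOf (x : G ⧸ R) = r := by
      rcases (Nat.dvd_prime hr).1 (hx ▸ orderOf_map_dvd (QuotientGroup.mk' R) x) with h | h
      · exact absurd (hx ▸ Subgroup.orderOf_dvd_natCard R ((QuotientGroup.eq_one_iff x).1
          (orderOf_eq_one_iff.1 h))) hrR
      · exact h
    have hle := le_centralizer_of_numbers T hr hxo (hd ▸ fun h => hdr (Nat.mod_eq_zero_of_dvd h)) hp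
      (hd ▸ Nat.dvd_of_mod_eq_zero hdp)
      (hd ▸ fun h => hdp2 (Nat.mod_eq_zero_of_dvd (by rw [← pow_two]; exact h))) (hd ▸ hdne)
      (fun h => hrp (Nat.mod_eq_zero_of_dvd h)) hq (hd ▸ Nat.dvd_of_mod_eq_zero hqa)
      (hd ▸ fun h => hqa' (Nat.mod_eq_zero_of_dvd h))
      (fun j h1 h2 h => hrq j (Nat.lt_succ_of_le h2) h1 (Nat.mod_eq_zero_of_dvd h))
      (hd ▸ numCheck_spec hnum hd0 hp.ne_zero)
    have hmem : (x : G ⧸ R) ∈ centralizer (T : Set (G ⧸ R)) := fun t ht =>
      mem_centralizer_singleton_iff.1 (hle ht)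
    rw [hC, mem_bot] at hmem
    rw [hmem, orderOf_one] at hxo
    exact hr.ne_one hxo.symm

/-- A degree multiple in the layer gives one in the group. -/
theorem exists_degree_of_layer {m : ℕ} (h : ∃ d ∈ Cfsg.charDegrees T, m ∣ d) :
    ∃ d ∈ Cfsg.charDegrees (G ⧸ R), m ∣ d := by
  letI := Fintype.ofFinite (G ⧸ R)
  letI := Fintype.ofFinite T
  obtain ⟨_, ⟨ψ, rfl⟩, hm⟩ := h
  obtain ⟨χ, hχ⟩ := CharGraph.exists_irr_over T ψ
  exact ⟨_, ⟨χ, rfl⟩, hm.trans (CharDeep.degree_ratio_dvd_index T χ.2 ψ.2 hχ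
    (Char.irr_charDegree_spec χ.2).2 (Char.irr_charDegree_spec ψ.2).2).1⟩

theorem adj_of_quotient {a b : ℕ} (hab : a ≠ b) (ha : a.Prime) (hb : b.Prime)
    (h : ∃ d ∈ Cfsg.charDegrees (G ⧸ R), a * b ∣ d) : (Cfsg.degreeGraph G).Adj a b := by
  obtain ⟨_, ⟨β, rfl⟩, hd⟩ := h
  refine ⟨hab, ha, hb, _, ⟨CharGraph.inflate R β, rfl⟩, ?_⟩
  rw [CharGraph.charDegree_inflate]
  exact hd

/-- Order 504 with a layer of order 168: there is an edge between 2 and 3. -/
theorem adj_504 [IsSimpleGroup T] (hd : Nat.card T = 168) : (Cfsg.degreeGraph G).Adj 2 3 := by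
  haveI : Fact (Nat.Prime 7) := ⟨by norm_num⟩
  refine adj_of_quotient R (by norm_num) Nat.prime_two Nat.prime_three (exists_degree_of_layer R T ?_)
  have h := ((S4774.result (ZMod 7) 7 (by norm_num) 7 (ZMod.card 7) (by norm_num)
    (Or.inl (S0495.result hd (F := ZMod 7) (ZMod.card 7)))).2 2 3).2
      ⟨by norm_num, Nat.prime_two, Nat.prime_three, by norm_num, by norm_num, Or.inl rfl⟩
  exact h.2.2.2

end Quot

theorem sq_charDegree_le {H : Type*} [Group H] [Finite H] (χ : IrrCharacter H) :
    Cfsg.charDegree (χ : H → ℂ) ^ 2 ≤ Nat.card H ∧ Cfsg.charDegree (χ : H → ℂ) ∣ Nat.card H ∧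
      0 < Cfsg.charDegree (χ : H → ℂ) := by
  classical
  letI := Fintype.ofFinite H
  have hs : ∀ ψ : IrrCharacter H, (ψ : H → ℂ) 1 = (Cfsg.charDegree (ψ : H → ℂ) : ℂ) := fun ψ =>
    (Char.irr_charDegree_spec ψ.2).2
  have h := Char.sum_irr_degree_sq (G := H)
  simp only [hs] at h
  have h' : ∑ ψ : IrrCharacter H, Cfsg.charDegree (ψ : H → ℂ) ^ 2 = Nat.card H := by exact_mod_cast h
  obtain ⟨m, hm0, hm, hmd⟩ := Char.irr_degree_dvd_card χ.2
  rw [Char.charDegree_of_eq hm]
  exact ⟨h' ▸ Char.charDegree_of_eq hm ▸ Finset.single_le_sum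
    (f := fun ψ : IrrCharacter H => Cfsg.charDegree (ψ : H → ℂ) ^ 2) (fun _ _ => Nat.zero_le _)
    (Finset.mem_univ χ), hmd, hm0⟩

/-- A simple normal subgroup of order 60 with trivial centralizer: the index is at most two. -/
theorem sixty_layer {H : Type*} [Group H] [Finite H] (T : Subgroup H) [T.Normal] [IsSimpleGroup T]
    (hT : Nat.card T = 60) (hC : centralizer (T : Set H) = ⊥) (hH : Nat.card H ∣ 360) :
    (Nat.card H = 60 ∨ Nat.card H = 120) ∧ (Nat.card H = 120 →
      ∃ d ∈ Cfsg.charDegrees H, 6 ∣ d) := by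
  classical
  haveI : Fact (Nat.Prime 5) := ⟨Nat.prime_five⟩
  have hP5 : ∀ P : Sylow 5 T, Nat.card (P : Subgroup T) = 5 := fun P => DegreeSixty.card_sylow_five P hT
  have h6 : Nat.card (Sylow 5 T) = 6 := by
    refine (DegreeSixty.card_sylow_five_eq hT).resolve_left fun h1 => ?_
    obtain ⟨P⟩ := (inferInstance : Nonempty (Sylow 5 T))
    haveI : Subsingleton (Sylow 5 T) := (Nat.card_eq_one_iff_unique.1 h1).1
    rcases P.normal_of_subsingleton.eq_bot_or_eq_top with hb | ht
    · have := hP5 P; rw [hb, Subgroup.card_bot] at this; omega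
    · have := hP5 P; rw [ht, Subgroup.card_top, hT] at this; omega
  letI : MulDistribMulAction H T := MulDistribMulAction.compHom T (MulAut.conjNormal (H := T))
  have hsm : ∀ (g : H) (t : T), ((g • t : T) : H) = g * t * g⁻¹ := fun g t => MulAut.conjNormal_apply g t
  let π := MulAction.toPermHom H (Sylow 5 T)
  have hdisj : ∀ g ∈ π.ker, ∀ P : Sylow 5 T, g • P = P := fun g hg P =>
    Equiv.congr_fun (MonoidHom.mem_ker.1 hg) P
  have hmemP : ∀ (g : H) (P : Sylow 5 T), g • P = P → ∀ y ∈ (P : Subgroup T), g • y ∈ (P : Subgroup T) := by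
    intro g P h y hy
    have hm : g • y ∈ ((g • P : Sylow 5 T) : Subgroup T) := ⟨y, hy, rfl⟩
    rwa [h] at hm
  have hnofix : ∀ (P : Sylow 5 T) (g : T), (g : H) • P = P → g ∈ normalizer ((P : Subgroup T) : Set T) := by
    intro P g hg
    rw [Subgroup.mem_normalizer_iff]
    intro y
    have e : ∀ (a : T) (z : T), (a : H) • z = a * z * a⁻¹ := fun a z => Subtype.ext (by
      rw [hsm]; simp)
    constructor
    · intro hy
      rw [← e]
      exact hmemP _ P hg y hy
    · intro hy
      have hg' : ((g⁻¹ : T) : H) • P = P := by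
        rw [Subgroup.coe_inv, inv_smul_eq_iff, hg]
      have := hmemP _ P hg' _ hy
      rw [e] at this
      simpa [mul_assoc] using this
  obtain ⟨P₁⟩ := (inferInstance : Nonempty (Sylow 5 T))
  have hker : π.ker = ⊥ := by
    have hKT : π.ker.subgroupOf T = ⊥ := by
      refine ((inferInstance : (π.ker.subgroupOf T).Normal).eq_bot_or_eq_top).resolve_right fun htop => ?_
      have hn : normalizer ((P₁ : Subgroup T) : Set T) = ⊤ := eq_top_iff.2 fun g _ =>
        hnofix P₁ g (hdisj g (Subgroup.subgroupOf_eq_top.1 htop g.2) P₁)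
      have h := P₁.card_eq_index_normalizer
      rw [h6] at h
      change 6 = (normalizer ((P₁ : Subgroup T) : Set T)).index at h
      rw [hn, Subgroup.index_top] at h
      omega
    have hle : π.ker ≤ centralizer (T : Set H) := by
      intro g hg t ht
      have hd := Subgroup.subgroupOf_eq_bot.1 hKT
      have hmem : g * t * g⁻¹ * t⁻¹ ∈ π.ker ⊓ T := mem_inf.2 ⟨by
          rw [show g * t * g⁻¹ * t⁻¹ = g * (t * g⁻¹ * t⁻¹) by group]
          exact mul_mem hg (π.normal_ker.conj_mem _ (inv_mem hg) t),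
        mul_mem ((inferInstance : T.Normal).conj_mem t ht g) (inv_mem ht)⟩
      rw [disjoint_iff.1 hd, mem_bot, mul_inv_eq_one, mul_inv_eq_iff_eq_mul] at hmem
      exact hmem.symm
    exact eq_bot_iff.2 (hle.trans hC.le)
  have hinj : Function.Injective π := (MonoidHom.ker_eq_bot_iff π).1 hker
  letI : Fintype (Sylow 5 T) := Fintype.ofFinite _
  let e6 : Sylow 5 T ≃ Fin 6 := Fintype.equivFinOfCardEq (by rw [← Nat.card_eq_fintype_card, h6])
  let ρ : H →* Equiv.Perm (Fin 6) := e6.permCongrHom.toMonoidHom.comp π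
  have hρ : Function.Injective ρ := e6.permCongrHom.injective.comp hinj
  have hA : Nat.card (alternatingGroup (Fin 6)) = 360 := by
    have : 2 * Nat.card (alternatingGroup (Fin 6)) = (6 : ℕ).factorial := by
      rw [two_mul_nat_card_alternatingGroup, Nat.card_perm, Nat.card_fin]
    rw [show (6 : ℕ).factorial = 720 from rfl] at this
    omega
  haveI hAs : IsSimpleGroup (alternatingGroup (Fin 6)) := alternatingGroup.isSimpleGroup (by simp)
  have hTd : 60 ∣ Nat.card H := hT ▸ Subgroup.card_subgroup_dvd_card T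
  have hsize : Nat.card H = 60 ∨ Nat.card H = 120 := by
    have hkey : ∀ m < 361, (360 % m == 0 && m % 60 == 0) = true → m = 60 ∨ m = 120 ∨ m = 180 ∨ m = 360 := by
      decide +kernel
    rcases hkey _ (Nat.lt_succ_of_le (Nat.le_of_dvd (by norm_num) hH))
      (by rw [Nat.mod_eq_zero_of_dvd hH, Nat.mod_eq_zero_of_dvd hTd]; rfl) with e | e | e | e
    · exact Or.inl e
    · exact Or.inr e
    all_goals exfalso
    all_goals
      have hI : Nat.card ρ.range = Nat.card H := (Nat.card_congr (MonoidHom.ofInjective hρ).toEquiv).symm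
      have hidx := ρ.range.card_mul_index
      rw [hI, e, Nat.card_perm, Nat.card_fin, show (6 : ℕ).factorial = 720 from rfl] at hidx
    · -- index four
      set L := ρ.range.subgroupOf (alternatingGroup (Fin 6)) with hL
      have hLi : L.index ≤ 4 := by
        have : ρ.range.index = 4 := by omega
        calc L.index = ρ.range.relIndex (alternatingGroup (Fin 6)) := rfl
          _ ≤ ρ.range.index := by
            rw [← Subgroup.relIndex_top_right ρ.range]
            exact Subgroup.relIndex_le_of_le_right le_top (by rw [Subgroup.relIndex_top_right]; omega)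
          _ = 4 := this
      have hLne : L ≠ ⊤ := fun h => by
        have := Subgroup.card_dvd_of_le (Subgroup.subgroupOf_eq_top.1 h)
        rw [hA, hI, e] at this
        norm_num at this
      have hcore : L.normalCore = ⊥ :=
        (Subgroup.normalCore_normal L).eq_bot_or_eq_top.resolve_right fun h =>
          hLne (top_le_iff.1 (h ▸ Subgroup.normalCore_le L))
      have hf : Function.Injective (MulAction.toPermHom (alternatingGroup (Fin 6)) (alternatingGroup (Fin 6) ⧸ L)) := by
        rw [← MonoidHom.ker_eq_bot_iff, ← Subgroup.normalCore_eq_ker, hcore]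
      have h := Subgroup.card_dvd_of_injective _ hf
      rw [Nat.card_perm, hA] at h
      have h2 := (h.trans (Nat.factorial_dvd_factorial hLi))
      norm_num [Nat.factorial] at h2
    · -- index two
      have he : ρ.range = alternatingGroup (Fin 6) :=
        Equiv.Perm.eq_alternatingGroup_of_index_eq_two (by omega)
      let ψ : H ≃* alternatingGroup (Fin 6) :=
        (MonoidHom.ofInjective hρ).trans (MulEquiv.subgroupCongr he)
      have hn : (T.map ψ.toMonoidHom).Normal := Subgroup.Normal.map inferInstance _ ψ.surjective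
      have hc : Nat.card (T.map ψ.toMonoidHom) = 60 := by
        rw [← Nat.card_congr (T.equivMapOfInjective ψ.toMonoidHom ψ.injective).toEquiv, hT]
      rcases hn.eq_bot_or_eq_top with h | h
      · rw [h, Subgroup.card_bot] at hc; omega
      · rw [h, Subgroup.card_top, hA] at hc; omega
  refine ⟨hsize, fun h120 => ?_⟩
  obtain ⟨x', hx'⟩ := exists_prime_orderOf_dvd_card' (G := (P₁ : Subgroup T)) 5 (by rw [hP5])
  set xT : T := (x' : T) with hxT
  set x : H := (xT : H) with hxdef
  have hxo : orderOf x = 5 := by rw [hxdef, Subgroup.orderOf_coe, hxT, Subgroup.orderOf_coe, hx']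
  set N := MulAction.stabilizer H P₁ with hNdef
  have hxN : ∀ z ∈ (P₁ : Subgroup T), ((z : T) : H) • P₁ = P₁ := by
    intro z hz
    refine Sylow.ext (le_antisymm ?_ fun y hy => ⟨z⁻¹ * y * z, mul_mem (mul_mem (inv_mem hz) hy) hz, ?_⟩)
    · rintro _ ⟨y, hy, rfl⟩
      have : (z : H) • y = z * y * z⁻¹ := Subtype.ext (by rw [hsm]; simp)
      show (z : H) • y ∈ _
      rw [this]
      exact mul_mem (mul_mem hz hy) (inv_mem hz)
    · show (z : H) • (z⁻¹ * y * z) = y
      exact Subtype.ext (by rw [hsm]; simp [mul_assoc])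
  have horb : MulAction.orbit H P₁ = Set.univ := Set.eq_univ_of_forall fun Q => by
    obtain ⟨g, hg⟩ := @MulAction.exists_smul_eq T (Sylow 5 T) Sylow.mulAction.toSMul
      Sylow.isPretransitive_of_finite P₁ Q
    refine ⟨(g : H), ?_⟩
    show (g : H) • P₁ = Q
    rw [← hg]
    refine Sylow.ext (le_antisymm ?_ ?_)
    · rintro _ ⟨y, hy, rfl⟩
      refine ⟨y, hy, ?_⟩
      show MulAut.conj g y = (g : H) • y
      exact Subtype.ext (by rw [hsm]; simp)
    · rintro _ ⟨y, hy, rfl⟩
      refine ⟨y, hy, ?_⟩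
      show (g : H) • y = MulAut.conj g y
      exact Subtype.ext (by rw [hsm]; simp)
  have hN20 : Nat.card N = 20 := by
    have h := Nat.card_congr (MulAction.orbitProdStabilizerEquivGroup H P₁)
    rw [Nat.card_prod, horb, Nat.card_univ, h6, h120] at h
    change 6 * Nat.card N = 120 at h
    omega
  -- the centralizer of `x` in the stabilizer
  have hC5 : Nat.card (N ⊓ centralizer ({x} : Set H) : Subgroup H) = 5 := by
    have hd : Nat.card (N ⊓ centralizer ({x} : Set H) : Subgroup H) ∣ 20 := hN20 ▸ Subgroup.card_dvd_of_le inf_le_left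
    have h5 : 5 ∣ Nat.card (N ⊓ centralizer ({x} : Set H) : Subgroup H) := hxo ▸ Subgroup.orderOf_dvd_natCard _
      (mem_inf.2 ⟨hxN xT x'.2, mem_centralizer_singleton_iff.2 rfl⟩)
    by_contra hne
    have hev : 2 ∣ Nat.card (N ⊓ centralizer ({x} : Set H) : Subgroup H) := by
      have hkey : ∀ m < 21, (20 % m == 0 && m % 5 == 0) = true → m = 5 ∨ m % 2 = 0 := by decide
      exact Nat.dvd_of_mod_eq_zero ((hkey _ (Nat.lt_succ_of_le (Nat.le_of_dvd (by norm_num) hd))
        (by rw [Nat.mod_eq_zero_of_dvd hd, Nat.mod_eq_zero_of_dvd h5]; rfl)).resolve_left hne)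
    obtain ⟨u, hu, hu2⟩ := L33.exists_two _ hev
    obtain ⟨huN, hux⟩ := mem_inf.1 hu
    have hcom : ∀ i : ℕ, Commute u (x ^ i) := fun i =>
      (show Commute u x from mem_centralizer_singleton_iff.1 hux).pow_right i
    haveI : Nontrivial (Sylow 5 T) := Finite.one_lt_card_iff_nontrivial.1 (by omega)
    obtain ⟨Q, hQ⟩ := exists_ne P₁
    have hxQ : x • Q ≠ Q := by
      intro h
      refine hQ (Sylow.ext ?_)
      have hz : zpowers xT ≤ normalizer ((Q : Subgroup T) : Set T) := zpowers_le.2 (hnofix Q xT h)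
      have hp : IsPGroup 5 (zpowers xT) := IsPGroup.of_card (n := 1)
        (by rw [Nat.card_zpowers, ← Subgroup.orderOf_coe, ← hxdef, hxo, pow_one])
      have he := Q.is_maximal' (hp.to_sup_of_normal_right' Q.2 hz) le_sup_right
      have hQe : zpowers xT = (Q : Subgroup T) := Subgroup.eq_of_le_of_card_ge (he ▸ le_sup_left)
        (by rw [hP5, Nat.card_zpowers, ← Subgroup.orderOf_coe, ← hxdef, hxo])
      have hPe : zpowers xT = (P₁ : Subgroup T) := Subgroup.eq_of_le_of_card_ge (zpowers_le.2 x'.2)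
        (by rw [hP5, Nat.card_zpowers, ← Subgroup.orderOf_coe, ← hxdef, hxo])
      exact hQe.symm.trans hPe
    have hxi : ∀ m : ℕ, (x ^ m) • Q = Q → 5 ∣ m := by
      intro m hm
      by_contra h5m
      obtain ⟨k, -, hk⟩ := Nat.exists_mul_mod_eq_one_of_coprime
        ((Nat.Prime.coprime_iff_not_dvd Nat.prime_five).2 h5m).symm (by norm_num : 1 < 5)
      refine hxQ ?_
      have hx1 : x = (x ^ m) ^ k := by
        rw [← pow_mul, ← pow_mod_orderOf, hxo, hk, pow_one]
      have hmem : x ^ m ∈ MulAction.stabilizer H Q := hm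
      rw [hx1]
      exact pow_mem hmem k
    have hP1fix : ∀ i : ℕ, (x ^ i) • P₁ = P₁ := fun i => pow_mem (show x ∈ N from hxN xT x'.2) i
    let all : Option (Fin 5) → Sylow 5 T := fun o => o.elim P₁ fun i => (x ^ (i : ℕ)) • Q
    have hall : Function.Surjective all := by
      refine (Function.Injective.bijective_of_nat_card_le (f := all) ?_ (by rw [h6]; simp)).2
      have hne' : ∀ i : ℕ, (x ^ i) • Q ≠ P₁ := fun i h => hQ (by
        have := congrArg (fun S => (x ^ i)⁻¹ • S) h
        simp only [inv_smul_smul] at this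
        rw [this, inv_smul_eq_iff, hP1fix i])
      rintro (_ | i) (_ | j) h
      · rfl
      · exact absurd h.symm (hne' _)
      · exact absurd h (hne' _)
      · have h' : (x ^ (i : ℕ)) • Q = (x ^ (j : ℕ)) • Q := h
        congr 1
        refine Fin.ext ?_
        rcases le_total (i : ℕ) (j : ℕ) with hij | hij
        · rw [show (x ^ (j : ℕ)) = x ^ (i : ℕ) * x ^ ((j : ℕ) - i) by rw [← pow_add]; congr 1; omega,
            mul_smul, smul_left_cancel_iff] at h'
          have := hxi _ h'.symm
          omega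
        · rw [show (x ^ (i : ℕ)) = x ^ (j : ℕ) * x ^ ((i : ℕ) - j) by rw [← pow_add]; congr 1; omega,
            mul_smul, smul_left_cancel_iff] at h'
          have := hxi _ h'
          omega
    have huQ : u • Q = Q := by
      obtain ⟨o, ho⟩ := hall (u • Q)
      rcases o with _ | i
      · exact absurd (smul_left_cancel u ((show u • Q = P₁ from ho.symm).trans (show u • P₁ = P₁ from huN).symm)) hQ
      · have ho' : u • Q = (x ^ (i : ℕ)) • Q := ho.symm
        have h2 : (x ^ (2 * (i : ℕ))) • Q = Q := by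
          have h3 : u • u • Q = Q := by rw [← mul_smul, L33.mul_self_of_two hu2, one_smul]
          rw [ho', ← mul_smul, (hcom i).eq, mul_smul, ho', ← mul_smul, ← pow_add, ← two_mul] at h3
          exact h3
        have := hxi _ h2
        have hi0 : (i : ℕ) = 0 := by omega
        rw [ho', hi0, pow_zero, one_smul]
    have hu1 : u ∈ π.ker := MonoidHom.mem_ker.2 (Equiv.ext fun S => by
      obtain ⟨o, rfl⟩ := hall S
      show u • all o = all o
      rcases o with _ | i
      · exact huN
      · show u • (x ^ (i : ℕ)) • Q = (x ^ (i : ℕ)) • Q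
        rw [← mul_smul, (hcom i).eq, mul_smul, huQ])
    rw [hker, mem_bot] at hu1
    exact L33.ne_one_of_two hu2 hu1
  have hfour : {z : H | ∃ g ∈ N, g * x * g⁻¹ = z} = {z : H | z ∈ zpowers x ∧ z ≠ 1} := by
    have h := L33.ncard_conj_mul N x
    rw [hC5, hN20] at h
    have hsub : {z : H | ∃ g ∈ N, g * x * g⁻¹ = z} ⊆ {z : H | z ∈ zpowers x ∧ z ≠ 1} := by
      rintro _ ⟨g, hg, rfl⟩
      refine ⟨?_, fun e => ?_⟩
      · have hy := hmemP g P₁ hg xT x'.2
        have hPe : zpowers xT = (P₁ : Subgroup T) := Subgroup.eq_of_le_of_card_ge (zpowers_le.2 x'.2)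
          (by rw [hP5, Nat.card_zpowers, ← Subgroup.orderOf_coe, ← hxdef, hxo])
        rw [← hPe] at hy
        obtain ⟨i, hi⟩ := mem_zpowers_iff.1 hy
        refine mem_zpowers_iff.2 ⟨i, ?_⟩
        rw [hxdef, ← Subgroup.coe_zpow, hi, hsm]
      · rw [conj_eq_one_iff] at e
        rw [e, orderOf_one] at hxo
        omega
    refine Set.eq_of_subset_of_ncard_le hsub ?_ (Set.toFinite _)
    have hz : ({z : H | z ∈ zpowers x ∧ z ≠ 1}).ncard = 4 := by
      rw [show {z : H | z ∈ zpowers x ∧ z ≠ 1} = (zpowers x : Set H) \ {1} by ext z; simp,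
        Set.ncard_diff_singleton_of_mem (one_mem _), ← Nat.card_coe_set_eq]
      simp only [SetLike.coe_sort_coe]
      rw [Nat.card_zpowers, hxo]
    omega
  -- a degree divisible by three
  have h3T : 3 ∈ Cfsg.degreePrimes T := mem_degreePrimes (hT ▸ by decide) Nat.prime_three
    (by rw [hT]; norm_num) (fun h => absurd (hT.symm.trans h) (by norm_num))
  obtain ⟨-, d, hd, h3d⟩ := CharGraph.degreePrimes_normal_subset T h3T
  obtain ⟨χ, rfl⟩ := hd
  obtain ⟨hsq, hdvd, hpos⟩ := sq_charDegree_le χ
  rw [h120] at hsq hdvd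
  have hdeg : Cfsg.charDegree (χ : H → ℂ) = 3 ∨ Cfsg.charDegree (χ : H → ℂ) = 6 := by
    have hlt : Cfsg.charDegree (χ : H → ℂ) < 11 := by nlinarith
    have hkey : ∀ m < 11, (120 % m == 0 && m % 3 == 0) = true → m = 3 ∨ m = 6 ∨ m = 0 := by decide
    rcases hkey _ hlt (by rw [Nat.mod_eq_zero_of_dvd hdvd, Nat.mod_eq_zero_of_dvd h3d]; rfl) with e | e | e
    · exact Or.inl e
    · exact Or.inr e
    · omega
  rcases hdeg with hdeg | hdeg
  swap
  · exact ⟨_, ⟨χ, rfl⟩, hdeg.symm.dvd⟩
  exfalso
  letI := Fintype.ofFinite H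
  have hχ := Char.isCharacter_of_irr χ.2
  have hχ1 : (χ : H → ℂ) 1 = (3 : ℂ) := by
    rw [(Char.irr_charDegree_spec χ.2).2, hdeg]; norm_num
  set A := zpowers x with hA
  letI : Fintype A := Fintype.ofFinite A
  obtain ⟨m, hm⟩ := Char.isCharacter_classInner_nat (Char.isCharacter_restrict hχ A) (Char.trivialIrr A)
  have hAc : Nat.card A = 5 := by rw [hA, Nat.card_zpowers, hxo]
  have hval : ∀ y : A, y ≠ 1 → (χ : H → ℂ) (y : H) = (χ : H → ℂ) x := by
    intro y hy
    obtain ⟨g, -, hg⟩ : (y : H) ∈ {z : H | ∃ g ∈ N, g * x * g⁻¹ = z} := by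
      rw [hfour]; exact ⟨y.2, fun e => hy (Subtype.ext e)⟩
    rw [← hg]
    exact Char.isCharacter_isClassFunction hχ x g
  have hsum : (3 : ℂ) + 4 * (χ : H → ℂ) x = 5 * m := by
    have hs : ∑ y : A, (χ : H → ℂ) (y : H) = (5 : ℂ) * m := by
      rw [← hm, Cfsg.classInner, hAc]
      simp [show ((Char.trivialIrr A : IrrCharacter A) : A → ℂ) = fun _ => 1 from rfl]
    rw [← Finset.add_sum_erase _ _ (Finset.mem_univ (1 : A)), Subgroup.coe_one, hχ1,
      Finset.sum_congr rfl (fun y hy => hval y (Finset.ne_of_mem_erase hy)), Finset.sum_const,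
      Finset.card_erase_of_mem (Finset.mem_univ _), Finset.card_univ, ← Nat.card_eq_fintype_card, hAc,
      nsmul_eq_mul] at hs
    norm_num at hs
    exact hs
  obtain ⟨z, hz⟩ := Char.exists_int_of_isIntegral_rat (q := ((5 * m : ℕ) - 3 : ℚ) / 4) (by
    have : ((((5 * m : ℕ) - 3 : ℚ) / 4 : ℚ) : ℂ) = (χ : H → ℂ) x := by
      push_cast
      linear_combination (-(1 : ℂ) / 4) * hsum
    rw [this]
    exact Char.isCharacter_isIntegral hχ x)
  have hvx : (χ : H → ℂ) x = (z : ℂ) := by
    have hz' : (5 * (m : ℂ) - 3) / 4 = (z : ℂ) := by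
      have := congrArg (fun q : ℚ => (q : ℂ)) hz
      push_cast at this
      exact this
    rw [← hz']
    linear_combination (1 / 4 : ℂ) * hsum
  have hbound : ‖(χ : H → ℂ) x‖ ≤ 3 := by
    have := Char.isCharacter_norm_le hχ x
    rw [hχ1] at this
    simpa using this
  rw [hvx, Complex.norm_intCast] at hbound
  have hz3 : |z| ≤ 3 := by exact_mod_cast hbound
  have hzm : 4 * z = 5 * (m : ℤ) - 3 := by
    have h' := hz
    field_simp at h'
    have : ((4 * z : ℤ) : ℚ) = ((5 * (m : ℤ) - 3 : ℤ) : ℚ) := by push_cast at h' ⊢; linarith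
    exact_mod_cast this
  have hz3' : z = 3 := by
    have := abs_le.1 hz3
    omega
  obtain ⟨Kc, hKn, hK⟩ := Char.isCharacter_exists_kernel hχ
  have hxK : x ∈ Kc := (hK x).2 (by rw [hvx, hz3', hχ1]; norm_num)
  haveI := hKn
  have hTK : T ≤ Kc := by
    rcases (inferInstance : (Kc.subgroupOf T).Normal).eq_bot_or_eq_top with h | h
    · have : xT ∈ Kc.subgroupOf T := Subgroup.mem_subgroupOf.2 hxK
      rw [h, mem_bot] at this
      rw [hxdef, this, Subgroup.coe_one, orderOf_one] at hxo
      omega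
    · exact Subgroup.subgroupOf_eq_top.1 h
  have hmemQ : Cfsg.charDegree (χ : H → ℂ) ∈ Cfsg.charDegrees (H ⧸ T) := by
    rw [SL2Char.charDegrees_quotient]
    exact ⟨χ, fun t ht => (hK t).1 (hTK ht), rfl⟩
  obtain ⟨β, hβ⟩ := hmemQ
  have h2 := (sq_charDegree_le β).2.1
  rw [hβ, hdeg, show Nat.card (H ⧸ T) = 2 by
    have := T.card_mul_index
    rw [hT, h120] at this
    change T.index = 2
    omega] at h2
  norm_num at h2

/-- Order 360 with a layer of order 60: an edge between 2 and 5 forces one between 2 and 3. -/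
theorem adj_360 {G : Type*} [Group G] [Finite G] (R : Subgroup G) [R.Normal] (T : Subgroup (G ⧸ R))
    [T.Normal] [IsSimpleGroup T] (hC : centralizer (T : Set (G ⧸ R)) = ⊥) (hn : Nat.card G = 360)
    (hd : Nat.card T = 60) (h25 : (Cfsg.degreeGraph G).Adj 2 5) : (Cfsg.degreeGraph G).Adj 2 3 := by
  classical
  obtain ⟨hsize, h120⟩ := sixty_layer T hd hC (hn ▸ Subgroup.card_quotient_dvd_card R)
  rcases hsize with hQ | hQ
  swap
  · exact adj_of_quotient R (by norm_num) Nat.prime_two Nat.prime_three (h120 hQ)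
  have hTtop : T = ⊤ := Subgroup.eq_top_of_card_eq _ (by rw [hd, hQ])
  have eT : T ≃* G ⧸ R := (MulEquiv.subgroupCongr hTtop).trans Subgroup.topEquiv
  haveI : Nontrivial (G ⧸ R) := eT.toEquiv.symm.nontrivial
  haveI hQs : IsSimpleGroup (G ⧸ R) := IsSimpleGroup.isSimpleGroup_of_surjective eT.toMonoidHom eT.surjective
  have hR6 : Nat.card R = 6 := by
    have := R.card_mul_index
    rw [hn, show R.index = 60 from hQ] at this
    omega
  obtain ⟨-, -, -, d, ⟨χ, rfl⟩, h10⟩ := h25
  obtain ⟨hsq, hdvd, hpos⟩ := sq_charDegree_le χ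
  rw [hn] at hsq hdvd
  have hdeg : Cfsg.charDegree (χ : G → ℂ) = 10 := by
    have hlt : Cfsg.charDegree (χ : G → ℂ) < 19 := by nlinarith
    have := Nat.le_of_dvd hpos h10
    obtain ⟨k, hk⟩ := h10
    omega
  set C := centralizer (R : Set G) with hCdef
  haveI hCn : C.Normal := inferInstance
  have hsubR : ∀ {M : Subgroup G}, M ≤ R → Nat.card M ≤ 6 := fun h => hR6 ▸
    Nat.le_of_dvd Nat.card_pos (Subgroup.card_dvd_of_le h)
  rcases ((hCn.map (QuotientGroup.mk' R) (QuotientGroup.mk'_surjective R))).eq_bot_or_eq_top with hb | ht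
  · -- `G` would act on six points
    exfalso
    have hCR : C ≤ R := by
      intro c hc
      have h := Subgroup.mem_map_of_mem (QuotientGroup.mk' R) hc
      rw [hb, mem_bot] at h
      exact (QuotientGroup.eq_one_iff c).1 h
    let f : G →* MulAut R := MulAut.conjNormal
    let g : MulAut R → Equiv.Perm {r : R // r ≠ 1} := fun a =>
      a.toEquiv.subtypeEquiv fun r => by simp
    have hg : Function.Injective g := by
      intro a b h
      refine MulEquiv.ext fun r => ?_
      by_cases hr : r = 1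
      · rw [hr, map_one, map_one]
      · have := congrArg Subtype.val (Equiv.congr_fun h ⟨r, hr⟩)
        exact this
    have hk : f.ker ≤ C := by
      intro x hx r hr
      have h := congrArg Subtype.val (MulEquiv.congr_fun (MonoidHom.mem_ker.1 hx) ⟨r, hr⟩)
      rw [MulAut.conjNormal_apply] at h
      exact (mul_inv_eq_iff_eq_mul.1 h).symm
    have h1 := f.ker.card_mul_index
    rw [Subgroup.index_ker, hn] at h1
    have h2 : Nat.card f.range ≤ 120 := by
      refine (Nat.card_le_card_of_injective (fun a : f.range => g a) (hg.comp Subtype.val_injective)).trans ?_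
      rw [Nat.card_perm]
      letI := Fintype.ofFinite R
      rw [Nat.card_eq_fintype_card, Fintype.card_subtype_compl, Fintype.card_subtype_eq,
        ← Nat.card_eq_fintype_card, hR6]
      decide
    have h3 : Nat.card f.ker ≤ 2 := by
      have hk' : Nat.card f.ker ∣ 6 := hR6 ▸ Subgroup.card_dvd_of_le (hk.trans hCR)
      by_contra h3
      -- a centralizer inside `R` of order at least three makes `R` commutative
      have hZ : Nat.card f.ker ≤ Nat.card (Subgroup.center R) := by
        refine Nat.card_le_card_of_injective (fun z => ⟨⟨(z : G), hCR (hk z.2)⟩,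
          Subgroup.mem_center_iff.2 fun r => Subtype.ext (hk z.2 r r.2)⟩) fun a b h => ?_
        exact Subtype.ext (congrArg (fun w : Subgroup.center R => ((w : R) : G)) h)
      have hmul := (Subgroup.center R).card_mul_index
      rw [hR6] at hmul
      have hi : (Subgroup.center R).index ≤ 3 := by nlinarith
      haveI : IsCyclic (R ⧸ Subgroup.center R) := L33.isCyclic_of_le_three hi
      have hab := commutative_of_cyclic_center_quotient (QuotientGroup.mk' (Subgroup.center R))
        (by rw [QuotientGroup.ker_mk'])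
      -- then `R ≤ C`, and the quotient embeds into an abelian automorphism group
      have hker : R ≤ f.ker := by
        intro r hr
        refine MonoidHom.mem_ker.2 (MulEquiv.ext fun s => Subtype.ext ?_)
        rw [MulAut.conjNormal_apply]
        have := congrArg Subtype.val (hab ⟨r, hr⟩ s)
        simp only [Subgroup.coe_mul] at this
        rw [this, mul_inv_cancel_right]
        rfl
      haveI : IsCyclic R := by
        haveI : Fact (Nat.Prime 2) := ⟨Nat.prime_two⟩
        haveI : Fact (Nat.Prime 3) := ⟨Nat.prime_three⟩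
        obtain ⟨a, ha⟩ := exists_prime_orderOf_dvd_card' (G := R) 2 (by rw [hR6]; norm_num)
        obtain ⟨b, hb'⟩ := exists_prime_orderOf_dvd_card' (G := R) 3 (by rw [hR6]; norm_num)
        refine isCyclic_of_orderOf_eq_card (a * b) ?_
        rw [(show Commute a b from hab a b).orderOf_mul_eq_mul_orderOf_of_coprime (by rw [ha, hb']; norm_num),
          ha, hb', hR6]
      have h4 : Nat.card f.range ≤ 2 := by
        refine (Subgroup.card_le_card_group f.range).trans ?_
        rw [IsCyclic.card_mulAut, hR6]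
        decide
      have h5 : Nat.card f.ker ≤ 6 := Nat.le_of_dvd (by norm_num) hk'
      nlinarith
    nlinarith
  have hsurj : Function.Surjective ((QuotientGroup.mk' R).comp C.subtype) := fun q => by
    obtain ⟨c, hc, rfl⟩ : q ∈ C.map (QuotientGroup.mk' R) := ht ▸ mem_top q
    exact ⟨⟨c, hc⟩, rfl⟩
  by_cases hab : ∀ a ∈ R, ∀ b ∈ R, a * b = b * a
  · -- `R` is central
    exfalso
    have hRC : R ≤ C := fun a ha b hb => hab b hb a ha
    have hRZ : R ≤ Subgroup.center G := by
      intro r hr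
      refine Subgroup.mem_center_iff.2 fun g => ?_
      obtain ⟨c, hc⟩ := hsurj (g : G ⧸ R)
      have hcg : (c : G)⁻¹ * g ∈ R := QuotientGroup.eq.1 hc
      have hgC : g ∈ C := by
        have := C.mul_mem c.2 (hRC hcg)
        rwa [mul_inv_cancel_left] at this
      exact (hgC r hr).symm
    letI := Fintype.ofFinite G
    have hnorm : ∀ z ∈ R, Complex.normSq ((χ : G → ℂ) z) = 100 := by
      intro z hz
      obtain ⟨ω, hω, hχz, -⟩ := Char.irr_mul_center χ.2 (hRZ hz)
      have h1 : ‖ω‖ = 1 := Complex.norm_eq_one_of_pow_eq_one hω (orderOf_pos z).ne'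
      rw [hχz, (Char.irr_charDegree_spec χ.2).2, hdeg, Complex.normSq_mul, Complex.normSq_eq_norm_sq, h1]
      norm_num
    have h := Char.classInner_irr_self χ.2
    rw [Cfsg.classInner, hn] at h
    simp only [Complex.mul_conj, ← Complex.ofReal_sum] at h
    have h' : ∑ g : G, Complex.normSq ((χ : G → ℂ) g) = 360 := by
      have h2 : ((∑ g : G, Complex.normSq ((χ : G → ℂ) g) : ℝ) : ℂ) = ((360 : ℝ) : ℂ) := by
        field_simp at h
        push_cast at h ⊢
        exact h
      exact_mod_cast h2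
    have hle : ∑ g ∈ Finset.univ.filter (fun g => g ∈ R), Complex.normSq ((χ : G → ℂ) g) ≤ 360 :=
      h' ▸ Finset.sum_le_sum_of_subset_of_nonneg (Finset.filter_subset _ _) fun g _ _ => Complex.normSq_nonneg _
    rw [Finset.sum_congr rfl fun g hg => hnorm g (Finset.mem_filter.1 hg).2, Finset.sum_const, nsmul_eq_mul,
      show (Finset.univ.filter fun g => g ∈ R).card = 6 by
        rw [← hR6, Nat.card_eq_fintype_card, Fintype.card_subtype]] at hle
    norm_num at hle
  · -- `G = C × R`
    have hCR : C ⊓ R = ⊥ := by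
      have hcen : Subgroup.center R = ⊥ := by
        by_contra hne
        haveI : Nontrivial (Subgroup.center R) := (Subgroup.nontrivial_iff_ne_bot _).2 hne
        have h1 := Finite.one_lt_card (α := Subgroup.center R)
        have hmul := (Subgroup.center R).card_mul_index
        rw [hR6] at hmul
        have hi : (Subgroup.center R).index ≤ 3 := by nlinarith
        haveI : IsCyclic (R ⧸ Subgroup.center R) := L33.isCyclic_of_le_three hi
        exact hab fun a ha b hb => congrArg Subtype.val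
          (commutative_of_cyclic_center_quotient (QuotientGroup.mk' (Subgroup.center R))
            (by rw [QuotientGroup.ker_mk']) (⟨a, ha⟩ : R) ⟨b, hb⟩)
      rw [eq_bot_iff]
      intro z hz
      obtain ⟨hz1, hz2⟩ := mem_inf.1 hz
      have : (⟨z, hz2⟩ : R) ∈ Subgroup.center R :=
        Subgroup.mem_center_iff.2 fun r => Subtype.ext (hz1 r r.2)
      rw [hcen, mem_bot] at this
      exact mem_bot.2 (congrArg Subtype.val this)
    have hCc : Nat.card C = 60 := by
      rw [← hQ]
      refine Nat.card_congr (Equiv.ofBijective _ ⟨?_, hsurj⟩)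
      rw [injective_iff_map_eq_one]
      intro c hc
      have h : (c : G) ∈ C ⊓ R := mem_inf.2 ⟨c.2, (QuotientGroup.eq_one_iff _).1 hc⟩
      rw [hCR, mem_bot] at h
      exact Subtype.ext h
    let eC : C ≃* G ⧸ R := MulEquiv.ofBijective ((QuotientGroup.mk' R).comp C.subtype)
      ⟨(hsurj.bijective_of_nat_card_le (by rw [hCc, hQ])).1, hsurj⟩
    have hcomm : ∀ (c : C) (r : R), Commute (C.subtype c) (R.subtype r) := fun c r => (c.2 r r.2).symm
    let F := MonoidHom.noncommCoprod C.subtype R.subtype hcomm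
    have hF : Function.Bijective F := by
      refine Function.Injective.bijective_of_nat_card_le ?_ (by rw [hn, Nat.card_prod, hCc, hR6])
      rw [injective_iff_map_eq_one]
      rintro ⟨c, r⟩ hcr
      have hcr' : (c : G) * (r : G) = 1 := hcr
      have hc : (c : G) ∈ C ⊓ R := mem_inf.2 ⟨c.2, eq_inv_of_mul_eq_one_left hcr' ▸ inv_mem r.2⟩
      rw [hCR, mem_bot] at hc
      rw [hc, one_mul] at hcr'
      exact Prod.ext (Subtype.ext hc) (Subtype.ext hcr')
    let e : C × R ≃* G := MulEquiv.ofBijective F hF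
    obtain ⟨θ, ψ, hθψ⟩ := Char.exists_irr_prodMul (Char.isIrrCharacter_comp_mulEquiv χ.2 e)
    have hprod : Cfsg.charDegree (θ : C → ℂ) * Cfsg.charDegree (ψ : R → ℂ) = 10 := by
      have h1 := congrFun hθψ 1
      simp only [Function.comp_apply, map_one, Prod.fst_one, Prod.snd_one] at h1
      rw [(Char.irr_charDegree_spec χ.2).2, hdeg, (Char.irr_charDegree_spec θ.2).2,
        (Char.irr_charDegree_spec ψ.2).2] at h1
      exact_mod_cast h1.symm
    obtain ⟨hθsq, hθdvd, -⟩ := sq_charDegree_le θ
    obtain ⟨hψsq, hψdvd, -⟩ := sq_charDegree_le ψ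
    rw [hCc] at hθsq hθdvd
    rw [hR6] at hψsq hψdvd
    have hψ2 : Cfsg.charDegree (ψ : R → ℂ) = 2 := by
      have h1 : Cfsg.charDegree (ψ : R → ℂ) ≤ 2 := by nlinarith
      have h2 : Cfsg.charDegree (θ : C → ℂ) ≤ 7 := by nlinarith
      interval_cases hψv : Cfsg.charDegree (ψ : R → ℂ) <;> omega
    haveI : Nontrivial C := Finite.one_lt_card_iff_nontrivial.1 (by omega)
    haveI : IsSimpleGroup C := IsSimpleGroup.isSimpleGroup_of_surjective eC.symm.toMonoidHom eC.symm.surjective
    obtain ⟨-, d, ⟨φ, rfl⟩, h3⟩ := mem_degreePrimes (S := C) (hCc ▸ by decide) Nat.prime_three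
      (by rw [hCc]; norm_num) (fun h => absurd (hCc.symm.trans h) (by norm_num))
    refine ⟨by norm_num, Nat.prime_two, Nat.prime_three, _,
      ⟨⟨_, Char.isIrrCharacter_comp_mulEquiv (Char.isIrrCharacter_prodMul φ.2 ψ.2) e.symm⟩, rfl⟩, ?_⟩
    rw [Char.charDegree_of_eq (d := Cfsg.charDegree (φ : C → ℂ) * Cfsg.charDegree (ψ : R → ℂ)) (by
      simp only [Function.comp_apply, map_one, Prod.fst_one, Prod.snd_one]
      rw [(Char.irr_charDegree_spec φ.2).2, (Char.irr_charDegree_spec ψ.2).2]
      push_cast; ring), hψ2]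
    rw [mul_comm (Cfsg.charDegree (φ : C → ℂ))]
    exact Nat.mul_dvd_mul_left 2 h3

end Cfsg.Agent.FGS75.SmallSimple
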