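import Cfsg.Agent.FGS75.SmallSimple.Orders
import Cfsg.Agent.RecogA.Socle
import Cfsg.Agent.Modules.Fixed
import Mathlib.GroupTheory.Solvable

/-!
# Non-solvable groups of order below 6000 that are not simple
-/

set_option autoImplicit false
set_option linter.style.haveILetI false

namespace Cfsg.Agent.FGS75.SmallSimple

open Subgroup

/-- The possible orders `(|G|, |T|)` of a group and of its unique non-abelian chief factor. -/
def composites : List (ℕ × ℕ) :=
  [(360, 60), (504, 168), (660, 60), (2520, 60), (2520, 168), (2520, 360), (2520, 504), (3420, 60),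
    (4080, 60)]

theorem composites_spec : ∀ n ∈ orders, ∀ d ∈ orders,
    (n % d == 0 && n != d) = true → composites.contains (n, d) = true := by decide +kernel

theorem no_two : ∀ n ∈ orders, ∀ d ∈ orders, ∀ e ∈ orders, n % (d * e) != 0 := by decide +kernel

theorem not_comm_of_mem_orders {H : Type*} [Group H] [Finite H] [IsSimpleGroup H]
    (h : Nat.card H ∈ orders) : ¬ IsMulCommutative H :=
  SmallGroups.not_isMulCommutative (by
    simp only [orders, List.mem_cons, List.not_mem_nil, or_false] at h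
    rcases h with e | e | e | e | e | e | e | e | e | e | e <;> rw [e] <;> norm_num)

theorem card_mul_dvd {H : Type*} [Group H] [Finite H] {A B : Subgroup H}
    (hc : ∀ a ∈ A, ∀ b ∈ B, Commute a b) (hd : A ⊓ B = ⊥) :
    Nat.card A * Nat.card B ∣ Nat.card H := by
  have hn : A ≤ normalizer (B : Set H) := by
    intro a ha
    rw [Subgroup.mem_normalizer_iff]
    intro b
    constructor
    · intro hb; rwa [(hc a ha b hb).eq, mul_inv_cancel_right]
    · intro hb
      have e := (hc a ha _ hb).eq
      rw [inv_mul_cancel_right] at e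
      rwa [mul_left_cancel e] at hb
  have h := Cfsg.Agent.Modules.card_sup_mul_card_inf hn
  rw [hd, Subgroup.card_bot, mul_one] at h
  exact h ▸ Subgroup.card_subgroup_dvd_card _

/-- A normal simple subgroup with trivial centralizer in a quotient by a solvable normal subgroup. -/
theorem exists_layer {G : Type*} [Group G] [Finite G] (hG : ¬ Group.IsSolvable G)
    (hn : Nat.card G ∈ orders) :
    IsSimpleGroup G ∨ ∃ (R : Subgroup G) (_ : R.Normal) (T : Subgroup (G ⧸ R)) (_ : T.Normal),
      IsSimpleGroup T ∧ centralizer (T : Set (G ⧸ R)) = ⊥ ∧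
        (Nat.card G, Nat.card T) ∈ composites := by
  have hlt : Nat.card G < 6000 := by
    simp only [orders, List.mem_cons, List.not_mem_nil, or_false] at hn
    omega
  obtain ⟨R, ⟨hRn, hRs⟩, hRmax⟩ := WellFounded.has_min (wellFounded_gt (α := Subgroup G))
    {R : Subgroup G | R.Normal ∧ Group.IsSolvable R} ⟨⊥, inferInstance, inferInstance⟩
  haveI := hRn
  haveI := hRs
  have hmax : ∀ M : Subgroup (G ⧸ R), M.Normal → Group.IsSolvable M → M = ⊥ := by
    intro M hM hMs
    haveI := hMs
    set L := M.comap (QuotientGroup.mk' R) with hL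
    have hRL : R ≤ L := fun r hr => by
      show (QuotientGroup.mk' R) r ∈ M
      rw [QuotientGroup.mk'_apply, (QuotientGroup.eq_one_iff r).2 hr]
      exact one_mem M
    have hLs : Group.IsSolvable L :=
      solvable_of_ker_le_range (Subgroup.inclusion hRL) ((QuotientGroup.mk' R).subgroupComap M) (by
        intro z hz
        have h := congrArg Subtype.val (MonoidHom.mem_ker.1 hz)
        exact ⟨⟨z, (QuotientGroup.eq_one_iff _).1 h⟩, rfl⟩)
    have he : R = L := hRL.eq_of_not_lt fun h => hRmax L ⟨hM.comap _, hLs⟩ h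
    rw [eq_bot_iff]
    intro m hm
    obtain ⟨g, rfl⟩ := QuotientGroup.mk'_surjective R m
    have hg : g ∈ L := hm
    rw [← he] at hg
    exact (QuotientGroup.eq_one_iff g).2 hg
  have hQnt : Nontrivial (G ⧸ R) := by
    by_contra hc
    rw [not_nontrivial_iff_subsingleton] at hc
    refine hG (solvable_of_ker_le_range R.subtype (QuotientGroup.mk' R) ?_)
    rw [QuotientGroup.ker_mk', Subgroup.range_subtype]
  have hQd : Nat.card (G ⧸ R) ∣ Nat.card G := Subgroup.card_quotient_dvd_card R
  have hfac : ∀ N : Subgroup (G ⧸ R), N.Normal → N ≠ ⊥ → ∃ U : Subgroup (G ⧸ R), U ≤ N ∧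
      IsSimpleGroup U ∧ Nat.card U ∈ orders ∧
      ∀ g, RecogA.cjg g U ≠ U → U ⊓ RecogA.cjg g U = ⊥ ∧ ∀ a ∈ U, ∀ b ∈ RecogA.cjg g U, Commute a b := by
    intro N hN hN1
    obtain ⟨M, ⟨hMn, hM1, hMN⟩, hMmin⟩ := WellFounded.has_min (wellFounded_lt (α := Subgroup (G ⧸ R)))
      {M : Subgroup (G ⧸ R) | M.Normal ∧ M ≠ ⊥ ∧ M ≤ N} ⟨N, hN, hN1, le_rfl⟩
    haveI := hMn
    have hna : ¬ IsMulCommutative M := fun h => hM1 (hmax M hMn
      (Group.isSolvable_of_comm fun a b => h.is_comm.comm a b))
    obtain ⟨U, hUM, -, hUs, hUna, hdis, -⟩ := RecogA.exists_simple_factor M hM1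
      (fun L hL hLM hL1 => (hLM.eq_of_not_lt fun h => hMmin L ⟨hL, hL1, hLM.trans hMN⟩ h)) hna
    refine ⟨U, hUM.trans hMN, hUs, ?_, hdis⟩
    exact card_mem_orders hUna (lt_of_le_of_lt (Nat.le_of_dvd Nat.card_pos
      ((Subgroup.card_subgroup_dvd_card U).trans hQd)) hlt)
  obtain ⟨T, -, hTs, hTo, hdis⟩ := hfac ⊤ inferInstance top_ne_bot
  have hTn : T.Normal := by
    refine ⟨fun a ha g => ?_⟩
    by_contra hga
    have hne : RecogA.cjg g T ≠ T := fun e => hga (e ▸ ⟨a, ha, rfl⟩)
    obtain ⟨hi, hc⟩ := hdis g hne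
    have h := card_mul_dvd hc hi
    rw [show Nat.card (RecogA.cjg g T) = Nat.card T from
      (Nat.card_congr (T.equivMapOfInjective _ (MulEquiv.injective _)).toEquiv).symm] at h
    have h2 := no_two _ hn _ hTo _ hTo
    simp [Nat.mod_eq_zero_of_dvd (h.trans hQd)] at h2
  haveI := hTn
  haveI := hTs
  have hC : centralizer (T : Set (G ⧸ R)) = ⊥ := by
    by_contra hne
    obtain ⟨U, hUC, -, hUo, -⟩ := hfac _ inferInstance hne
    have hd : T ⊓ centralizer (T : Set (G ⧸ R)) = ⊥ := by
      rw [eq_bot_iff]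
      intro z hz
      obtain ⟨hz1, hz2⟩ := mem_inf.1 hz
      by_contra hz0
      have hcen : (⟨z, hz1⟩ : T) ∈ Subgroup.center T :=
        Subgroup.mem_center_iff.2 fun g => Subtype.ext (hz2 g g.2)
      rcases (inferInstance : (Subgroup.center T).Normal).eq_bot_or_eq_top with e | e
      · rw [e, mem_bot] at hcen
        exact hz0 (mem_bot.2 (congrArg Subtype.val hcen))
      · exact not_comm_of_mem_orders hTo
          ⟨⟨fun a b => Subgroup.mem_center_iff.1 (e ▸ Subgroup.mem_top b) a⟩⟩
    have h := card_mul_dvd (A := T) (B := U) (fun a ha b hb => hUC hb a ha)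
      (eq_bot_iff.2 ((inf_le_inf_left T hUC).trans hd.le))
    have h2 := no_two _ hn _ hTo _ hUo
    simp [Nat.mod_eq_zero_of_dvd (h.trans hQd)] at h2
  by_cases he : Nat.card G = Nat.card T
  · left
    have hTQ : Nat.card T ∣ Nat.card (G ⧸ R) := Subgroup.card_subgroup_dvd_card T
    have hQG : Nat.card (G ⧸ R) = Nat.card G := Nat.dvd_antisymm hQd (he ▸ hTQ)
    have hTtop : T = ⊤ := Subgroup.eq_top_of_card_eq _ (by rw [hQG, he])
    have hinj : Function.Bijective (QuotientGroup.mk' R) :=
      (Nat.bijective_iff_surjective_and_card _).2 ⟨QuotientGroup.mk'_surjective R, hQG.symm⟩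
    let e1 : T ≃* G := ((MulEquiv.subgroupCongr hTtop).trans Subgroup.topEquiv).trans
      (MulEquiv.ofBijective _ hinj).symm
    haveI : Nontrivial G := e1.symm.toEquiv.nontrivial
    exact IsSimpleGroup.isSimpleGroup_of_surjective e1.toMonoidHom e1.surjective
  · refine Or.inr ⟨R, hRn, T, hTn, hTs, hC, List.contains_iff_mem.1 (composites_spec _ hn _ hTo ?_)⟩
    simp [he, Nat.mod_eq_zero_of_dvd ((Subgroup.card_subgroup_dvd_card T).trans hQd)]

end Cfsg.Agent.FGS75.SmallSimple
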