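import Cfsg.Agent.FGS75.SmallSimple.Composite

/-!
# A simple group of order below 6000 is determined by its order and degree graph
-/

set_option autoImplicit false
set_option linter.style.haveILetI false

namespace Cfsg.Agent.FGS75.SmallSimple

/-- The prime used to show that the group is not solvable. -/
def bigPrime : List (ℕ × ℕ) :=
  [(60, 5), (168, 7), (360, 5), (504, 7), (660, 11), (1092, 13), (2448, 17), (2520, 5), (3420, 19),
    (4080, 17), (5616, 13)]

/-- The primes dividing some of the orders. -/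
def primes : List ℕ := [2, 3, 5, 7, 11, 13, 17, 19]

theorem exists_bigPrime : ∀ n ∈ orders, ∃ x ∈ bigPrime, x.1 = n := by decide +kernel

theorem bigPrime_spec : ∀ x ∈ bigPrime, (x.2 ∈ primes) ∧ x.1 % x.2 = 0 ∧ x.1 % (x.2 * x.2) ≠ 0 ∧
    (x.1 = 2520 → x.2 = 5 ∨ x.2 = 7) := by decide +kernel

theorem bigPrime_check : ∀ x ∈ bigPrime, ∀ r ∈ primes, ∀ j < 5,
    (decide (1 ≤ j) && x.1 % r ^ j == 0 && r != x.2 && (r ^ j - 1) % x.2 == 0) = true →
      (x.1 % r ^ (j + 1) != 0 && x.1 != 2520) = true := by decide +kernel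

theorem no_fifth : ∀ x ∈ bigPrime, ∀ r ∈ primes, (x.1 % r ^ 5 != 0) = true := by decide +kernel

theorem prime_mem_primes {n r : ℕ} (hn : n ∈ orders) (hr : r.Prime) (h : r ∣ n) : r ∈ primes := by
  have hall : ∀ m ∈ orders, (2 ^ 4 * 3 ^ 3 * 5 * 7 * 11 * 13 * 17 * 19) % m = 0 := by decide +kernel
  have h' := h.trans (Nat.dvd_of_mod_eq_zero (hall n hn))
  simp only [hr.dvd_mul] at h'
  have key : ∀ q : ℕ, q.Prime → r ∣ q → r = q := fun q hq => (Nat.prime_dvd_prime_iff_eq hr hq).1
  simp only [primes, List.mem_cons, List.not_mem_nil, or_false]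
  rcases h' with ((((((h2 | h3) | h5) | h7) | h11) | h13) | h17) | h19
  · exact Or.inl (key 2 Nat.prime_two (hr.dvd_of_dvd_pow h2))
  · exact Or.inr (Or.inl (key 3 Nat.prime_three (hr.dvd_of_dvd_pow h3)))
  all_goals
    first
      | (have := key 5 (by norm_num) h5; tauto)
      | (have := key 7 (by norm_num) h7; tauto)
      | (have := key 11 (by norm_num) h11; tauto)
      | (have := key 13 (by norm_num) h13; tauto)
      | (have := key 17 (by norm_num) h17; tauto)
      | (have := key 19 (by norm_num) h19; tauto)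

theorem nonempty_mulEquiv {S : Type*} [Group S] [Finite S] [IsSimpleGroup S] (hS : ¬ IsMulCommutative S)
    (hlt : Nat.card S < 6000) {G : Type*} [Group G] [Finite G] (hcard : Nat.card G = Nat.card S)
    (hP : Cfsg.degreePrimes G = Cfsg.degreePrimes S) (hE : Cfsg.degreeGraph G = Cfsg.degreeGraph S) :
    Nonempty (G ≃* S) := by
  have hSo := card_mem_orders hS hlt
  have hdP : ∀ r : ℕ, r.Prime → r ∣ Nat.card S → (Nat.card S = 2520 → r = 5 ∨ r = 7) →
      r ∈ Cfsg.degreePrimes G := fun r h1 h2 h3 => by rw [hP]; exact mem_degreePrimes hSo h1 h2 h3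
  obtain ⟨⟨n, p⟩, hx, hn⟩ := exists_bigPrime _ hSo
  simp only at hn
  obtain ⟨hpm, hp1, hp2, hp3⟩ := bigPrime_spec _ hx
  have hp : p.Prime := by
    simp only [primes, List.mem_cons, List.not_mem_nil, or_false] at hpm
    rcases hpm with rfl | rfl | rfl | rfl | rfl | rfl | rfl | rfl <;> norm_num
  have hns : ¬ Group.IsSolvable G := by
    refine not_solvable_of_degreePrimes hp (hcard ▸ hn ▸ Nat.dvd_of_mod_eq_zero hp1)
      (fun h => hp2 (Nat.mod_eq_zero_of_dvd (by rw [← pow_two, hn, ← hcard]; exact h)))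
      (hdP p hp (hn ▸ Nat.dvd_of_mod_eq_zero hp1) (fun e => hp3 (hn.trans e))) ?_
    intro r hr hrp j hj1 hjd hjp
    rw [hcard, ← hn] at hjd ⊢
    have hrn : r ∣ n := (dvd_pow_self r (by omega)).trans hjd
    have hrm := prime_mem_primes (hn ▸ hSo) hr hrn
    have hj5 : j < 5 := by
      by_contra h5
      have h := no_fifth _ hx r hrm
      simp [Nat.mod_eq_zero_of_dvd ((pow_dvd_pow r (show 5 ≤ j by omega)).trans hjd)] at h
    have h := bigPrime_check _ hx r hrm j hj5 (by
      simp [hj1, Nat.mod_eq_zero_of_dvd hjd, hrp, Nat.mod_eq_zero_of_dvd hjp])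
    simp only [Bool.and_eq_true, bne_iff_ne, ne_eq] at h
    exact ⟨fun e => h.1 (Nat.mod_eq_zero_of_dvd e),
      hdP r hr (hn ▸ hrn) fun e => absurd (hn.trans e) h.2⟩
  rcases exists_layer hns (hcard ▸ hSo) with hs | ⟨R, hR, T, hT, hTs, hC, hmem⟩
  · haveI := hs
    exact nonempty_mulEquiv_of_card hSo hcard
  exfalso
  haveI := hR
  haveI := hT
  haveI := hTs
  simp only [composites, List.mem_cons, List.not_mem_nil, or_false, Prod.mk.injEq] at hmem
  rcases hmem with ⟨e, d⟩ | ⟨e, d⟩ | ⟨e, d⟩ | ⟨e, d⟩ | ⟨e, d⟩ | ⟨e, d⟩ | ⟨e, d⟩ | ⟨e, d⟩ | ⟨e, d⟩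
  · -- order 360
    obtain ⟨h25, h23⟩ := graph_of_360 (S := S) (hcard ▸ e)
    exact h23 (hE ▸ adj_360 R T hC e d (hE ▸ h25))
  · exact not_adj_of_504 (S := S) (hcard ▸ e) (hE ▸ adj_504 R T d)
  · exact false_of_no_aut R T hC e d 11 5 3 1 (by norm_num) (by norm_num) (by norm_num)
      (hdP 11 (by norm_num) (by rw [← hcard, e]; norm_num) (fun h => absurd (e.symm.trans (hcard.trans h)) (by norm_num)))
      (by norm_num) (by norm_num) (by norm_num) (by norm_num) (by norm_num) (by norm_num) (by norm_num)
      (by norm_num) (by norm_num) (by decide) (by decide +kernel) (by decide)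
  · exact false_of_no_aut R T hC e d 7 5 3 1 (by norm_num) (by norm_num) (by norm_num)
      (hdP 7 (by norm_num) (by rw [← hcard, e]; norm_num) (fun _ => Or.inr rfl))
      (by norm_num) (by norm_num) (by norm_num) (by norm_num) (by norm_num) (by norm_num) (by norm_num)
      (by norm_num) (by norm_num) (by decide) (by decide +kernel) (by decide)
  · exact false_of_no_aut R T hC e d 5 7 3 1 (by norm_num) (by norm_num) (by norm_num)
      (hdP 5 (by norm_num) (by rw [← hcard, e]; norm_num) (fun _ => Or.inl rfl))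
      (by norm_num) (by norm_num) (by norm_num) (by norm_num) (by norm_num) (by norm_num) (by norm_num)
      (by norm_num) (by norm_num) (by decide) (by decide +kernel) (by decide)
  · exact false_of_no_aut R T hC e d 7 5 3 2 (by norm_num) (by norm_num) (by norm_num)
      (hdP 7 (by norm_num) (by rw [← hcard, e]; norm_num) (fun _ => Or.inr rfl))
      (by norm_num) (by norm_num) (by norm_num) (by norm_num) (by norm_num) (by norm_num) (by norm_num)
      (by norm_num) (by norm_num) (by decide) (by decide +kernel) (by decide)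
  · exact false_of_no_aut R T hC e d 5 7 3 2 (by norm_num) (by norm_num) (by norm_num)
      (hdP 5 (by norm_num) (by rw [← hcard, e]; norm_num) (fun _ => Or.inl rfl))
      (by norm_num) (by norm_num) (by norm_num) (by norm_num) (by norm_num) (by norm_num) (by norm_num)
      (by norm_num) (by norm_num) (by decide) (by decide +kernel) (by decide)
  · exact false_of_no_aut R T hC e d 19 5 3 1 (by norm_num) (by norm_num) (by norm_num)
      (hdP 19 (by norm_num) (by rw [← hcard, e]; norm_num) (fun h => absurd (e.symm.trans (hcard.trans h)) (by norm_num)))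
      (by norm_num) (by norm_num) (by norm_num) (by norm_num) (by norm_num) (by norm_num) (by norm_num)
      (by norm_num) (by norm_num) (by decide) (by decide +kernel) (by decide +kernel)
  · exact false_of_no_aut R T hC e d 17 5 3 1 (by norm_num) (by norm_num) (by norm_num)
      (hdP 17 (by norm_num) (by rw [← hcard, e]; norm_num) (fun h => absurd (e.symm.trans (hcard.trans h)) (by norm_num)))
      (by norm_num) (by norm_num) (by norm_num) (by norm_num) (by norm_num) (by norm_num) (by norm_num)
      (by norm_num) (by norm_num) (by decide) (by decide +kernel) (by decide +kernel)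

end Cfsg.Agent.FGS75.SmallSimple
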