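import Cfsg.Agent.FGS75.SmallSimple.Sieve
import Cfsg.Agent.FGS75.SmallSimple.Not1512
import Cfsg.Agent.FGS75.SmallSimple.Not2160
import Cfsg.Agent.S0496
import Cfsg.Agent.S0983

/-!
# The orders of the non-abelian simple groups below 6000
-/

set_option autoImplicit false
set_option linter.style.haveILetI false

namespace Cfsg.Agent.FGS75.SmallSimple

open Subgroup
open Cfsg.Agent.SmallGroups Cfsg.Agent.SmallGroups.BelowThousand
open Cfsg.Agent.SmallGroups.BelowSixThousand

theorem mid_aux {G : Type} [Group G] [Finite G] [IsSimpleGroup G] (hG : ¬ IsMulCommutative G)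
    (h1 : 1092 < Nat.card G) (h2 : Nat.card G ≤ 3640) :
    Nat.card G = 2448 ∨ Nat.card G = 2520 ∨ Nat.card G = 3420 := by
  haveI : Fact (Nat.Prime 5) := ⟨by norm_num⟩
  haveI : Fact (Nat.Prime 7) := ⟨by norm_num⟩
  rcases card_mem_leftMid hG h1 h2 with hmem | e | e
  · simp only [leftMid, List.mem_cons, List.not_mem_nil, or_false] at hmem
    rcases hmem with e | e | e | e | e | e | e | e | e | e | e | e | e | e | e
    · exact (ThreeTwoPowSquare.no_simple hG (r := 7) (i := 3) (by norm_num) (by norm_num)
        (by rw [e]; norm_num)).elim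
    · exact absurd (KleinThreePrimes.card_eq hG (r := 5) (i := 1) (j := 3) (by norm_num) le_rfl
        (by rw [e]; norm_num)) (by omega)
    · exact absurd e not_1512
    · exact absurd (KleinThreePrimes.card_eq hG (r := 5) (i := 4) (j := 1) (by norm_num) le_rfl
        (by rw [e]; norm_num)) (by omega)
    · exact (not_1680 hG e).elim
    · exact absurd (KleinThreePrimes.card_eq hG (r := 7) (i := 2) (j := 2) (by norm_num) (by norm_num)
        (by rw [e]; norm_num)) (by omega)
    · exact (not_1800_3600 hG (Or.inl e)).elim
    · exact absurd e not_2160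
    · exact (ThreeTwoPowSquare.no_simple hG (r := 7) (i := 4) (by norm_num) (by norm_num)
        (by rw [e]; norm_num)).elim
    · exact (ThreeTwoPowSquare.no_simple hG (r := 5) (i := 5) (by norm_num) le_rfl
        (by rw [e]; norm_num)).elim
    · exact Or.inr (Or.inl e)
    · exact absurd (KleinThreePrimes.card_eq hG (r := 5) (i := 3) (j := 2) (by norm_num) le_rfl
        (by rw [e]; norm_num)) (by omega)
    · exact (not_3360 hG e).elim
    · exact (kill_inter hG 7 1 72 3528 e (by norm_num) (by norm_num) (by norm_num) (by norm_num)
        (by decide +kernel) (by decide +kernel)).elim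
    · exact (not_1800_3600 hG (Or.inr e)).elim
  · exact Or.inl e
  · exact Or.inr (Or.inr e)

/-- The orders of the non-abelian simple groups of order below 6000. -/
def orders : List ℕ := [60, 168, 360, 504, 660, 1092, 2448, 2520, 3420, 4080, 5616]

/-- A non-abelian simple group of order below 6000 has one of the eleven orders. -/
theorem card_mem_orders {G : Type*} [Group G] [Finite G] [IsSimpleGroup G]
    (hG : ¬ IsMulCommutative G) (h : Nat.card G < 6000) : Nat.card G ∈ orders := by
  simp only [orders, List.mem_cons, List.not_mem_nil, or_false]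
  rcases le_or_gt (Nat.card G) 1092 with h1 | h1
  · have := S0496.result hG h1; omega
  rcases le_or_gt (Nat.card G) 3640 with h2 | h2
  · classical
    letI := Fintype.ofFinite G
    let f : G →* Equiv.Perm (Fin (Fintype.card G)) :=
      (Fintype.equivFin G).permCongrHom.toMonoidHom.comp (MulAction.toPermHom G G)
    have hf : Function.Injective f :=
      (Fintype.equivFin G).permCongrHom.injective.comp MulAction.toPerm_injective
    let e : G ≃* ↥f.range := MonoidHom.ofInjective hf
    haveI : Nontrivial ↥f.range := e.toEquiv.symm.nontrivial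
    haveI : IsSimpleGroup ↥f.range := IsSimpleGroup.isSimpleGroup_of_surjective e.toMonoidHom e.surjective
    have hcard : Nat.card ↥f.range = Nat.card G := (Nat.card_congr e.toEquiv).symm
    have := mid_aux (G := ↥f.range)
      (fun h' => hG ⟨⟨fun a b => e.injective (by rw [map_mul, map_mul, h'.is_comm.comm])⟩⟩)
      (hcard ▸ h1) (hcard ▸ h2)
    omega
  · have := S0983.result hG h2 (by omega); omega

end Cfsg.Agent.FGS75.SmallSimple
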