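import Cfsg.Agent.FGS75.SmallSimple.Orders
import Cfsg.Agent.FGS75.L33.Cent
import Cfsg.Agent.S0494
import Cfsg.Agent.S0495
import Cfsg.Agent.S0497
import Cfsg.Agent.S0498
import Cfsg.Agent.S0981
import Cfsg.Agent.S0984
import Cfsg.Agent.S1011
import Cfsg.Agent.S1020
import Cfsg.Agent.S1021
import Mathlib.FieldTheory.Finite.GaloisField

/-!
# The simple groups of order below 6000 are determined by their orders
-/

set_option autoImplicit false
set_option linter.style.haveILetI false

namespace Cfsg.Agent.FGS75.SmallSimple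

open scoped Matrix

theorem card_galois (n : ℕ) (hn : n ≠ 0) [Fintype (GaloisField 2 n)] :
    Fintype.card (GaloisField 2 n) = 2 ^ n := by
  rw [← Nat.card_eq_fintype_card, GaloisField.card 2 n hn]

/-- Two simple groups of equal order below 6000 are isomorphic. -/
theorem nonempty_mulEquiv_of_card {G : Type*} [Group G] [Finite G] [IsSimpleGroup G]
    {S : Type*} [Group S] [Finite S] [IsSimpleGroup S] (hS : Nat.card S ∈ orders)
    (h : Nat.card G = Nat.card S) : Nonempty (G ≃* S) := by
  haveI : Fact (Nat.Prime 7) := ⟨by norm_num⟩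
  haveI : Fact (Nat.Prime 11) := ⟨by norm_num⟩
  haveI : Fact (Nat.Prime 13) := ⟨by norm_num⟩
  haveI : Fact (Nat.Prime 17) := ⟨by norm_num⟩
  haveI : Fact (Nat.Prime 19) := ⟨by norm_num⟩
  letI : Fintype (GaloisField 2 3) := Fintype.ofFinite _
  letI : Fintype (GaloisField 2 4) := Fintype.ofFinite _
  simp only [orders, List.mem_cons, List.not_mem_nil, or_false] at hS
  rcases hS with e | e | e | e | e | e | e | e | e | e | e
  · exact ⟨(S0494.result (h.trans e)).some.trans (S0494.result e).some.symm⟩
  · exact ⟨(S0495.result (h.trans e) (F := ZMod 7) (ZMod.card 7)).some.trans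
      (S0495.result e (F := ZMod 7) (ZMod.card 7)).some.symm⟩
  · exact ⟨(S0497.result (h.trans e)).some.trans (S0497.result e).some.symm⟩
  · have hF := card_galois 3 (by norm_num)
    norm_num at hF
    exact ⟨(S1011.result (h.trans e) hF).some.trans (S1011.result e hF).some.symm⟩
  · exact ⟨(S0498.result 11 (Or.inl rfl) (by rw [h, e]; norm_num) (F := ZMod 11) (ZMod.card 11)).some.trans
      (S0498.result 11 (Or.inl rfl) (by rw [e]; norm_num) (F := ZMod 11) (ZMod.card 11)).some.symm⟩
  · exact ⟨(S0498.result 13 (Or.inr rfl) (by rw [h, e]; norm_num) (F := ZMod 13) (ZMod.card 13)).some.trans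
      (S0498.result 13 (Or.inr rfl) (by rw [e]; norm_num) (F := ZMod 13) (ZMod.card 13)).some.symm⟩
  · exact ⟨(S1020.result (h.trans e) (F := ZMod 17) (ZMod.card 17)).some.trans
      (S1020.result e (F := ZMod 17) (ZMod.card 17)).some.symm⟩
  · exact ⟨(S0984.result (h.trans e)).some.trans (S0984.result e).some.symm⟩
  · exact ⟨(S1021.result (h.trans e) (F := ZMod 19) (ZMod.card 19)).some.trans
      (S1021.result e (F := ZMod 19) (ZMod.card 19)).some.symm⟩
  · have hF := card_galois 4 (by norm_num)
    norm_num at hF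
    exact ⟨(S0981.result (h.trans e) hF).some.trans (S0981.result e hF).some.symm⟩
  · exact ⟨(L33.nonempty_mulEquiv_SL (h.trans e)).some.trans (L33.nonempty_mulEquiv_SL e).some.symm⟩

end Cfsg.Agent.FGS75.SmallSimple
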